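import Mathlib

/-!
# Diagram lemmas in abelian categories used for modules of type A
-/

set_option autoImplicit false

open CategoryTheory CategoryTheory.Limits

namespace Groth.Agent.Lib.Helper2.QcSite

variable {A : Type*} [Category A] [Abelian A]

/-- (A1) -/
lemma epi_biprod_desc_of_exact (S : ShortComplex A) (hS : S.Exact) [Epi S.g] {T₁ R : A}
    (τ₁ : T₁ ⟶ S.X₁) [Epi τ₁] (β : R ⟶ S.X₂) (hβ : Epi (β ≫ S.g)) :
    Epi (biprod.desc (τ₁ ≫ S.f) β) := by
  apply Abelian.epi_of_cokernel_π_eq_zero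
  have h1 : S.f ≫ cokernel.π (biprod.desc (τ₁ ≫ S.f) β) = 0 := by
    rw [← cancel_epi τ₁, comp_zero, ← Category.assoc]
    have := biprod.inl ≫= cokernel.condition (biprod.desc (τ₁ ≫ S.f) β)
    rwa [biprod.inl_desc_assoc, comp_zero] at this
  have h2 : β ≫ cokernel.π (biprod.desc (τ₁ ≫ S.f) β) = 0 := by
    have := biprod.inr ≫= cokernel.condition (biprod.desc (τ₁ ≫ S.f) β)
    rwa [biprod.inr_desc_assoc, comp_zero] at this
  have h3 : S.g ≫ hS.desc _ h1 = cokernel.π (biprod.desc (τ₁ ≫ S.f) β) := hS.g_desc _ _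
  have h4 : hS.desc _ h1 = 0 := by
    rw [← cancel_epi (β ≫ S.g), comp_zero, Category.assoc, h3, h2]
  rw [← h3, h4, comp_zero]

/-- (A2) -/
lemma epi_kernel_lift_of_epi {T E P : A} (u : T ⟶ E) [Epi u] (v : E ⟶ P) :
    Epi (kernel.lift v (kernel.ι (u ≫ v) ≫ u) (by rw [Category.assoc, kernel.condition])) := by
  rw [epi_iff_surjective_up_to_refinements]
  intro A₀ x
  obtain ⟨A', π, hπ, y, hy⟩ := surjective_up_to_refinements_of_epi u (x ≫ kernel.ι v)
  have hy0 : y ≫ u ≫ v = 0 := by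
    rw [← Category.assoc, ← hy, Category.assoc, Category.assoc, kernel.condition, comp_zero,
      comp_zero]
  refine ⟨A', π, hπ, kernel.lift (u ≫ v) y hy0, ?_⟩
  rw [← cancel_mono (kernel.ι v)]
  simp only [Category.assoc, kernel.lift_ι, kernel.lift_ι_assoc]
  exact hy

/-- (A3) -/
lemma exists_exact_kernel_biprod {T P R : A} (φ : T ⟶ P) (γ : R ⟶ P) [Epi γ] (β : R ⟶ T)
    (h : β ≫ φ = γ) :
    ∃ (f : kernel γ ⟶ kernel φ ⊞ R) (w : f ≫ biprod.desc (kernel.ι φ) β = 0),
      (ShortComplex.mk f _ w).Exact ∧ Epi (biprod.desc (kernel.ι φ) β) := by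
  subst h
  have hκ : (kernel.ι (β ≫ φ) ≫ β) ≫ φ = 0 := by rw [Category.assoc, kernel.condition]
  let κ : kernel (β ≫ φ) ⟶ kernel φ := kernel.lift φ (kernel.ι (β ≫ φ) ≫ β) hκ
  have w : biprod.lift (-κ) (kernel.ι (β ≫ φ)) ≫ biprod.desc (kernel.ι φ) β = 0 := by
    rw [biprod.lift_desc]
    simp [κ]
  refine ⟨biprod.lift (-κ) (kernel.ι (β ≫ φ)), w, ?_, ?_⟩
  · apply ShortComplex.exact_of_f_is_kernel
    refine KernelFork.IsLimit.ofι _ _
      (fun {A₀} x hx => kernel.lift (β ≫ φ) (x ≫ biprod.snd) ?_) ?_ ?_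
    · dsimp at hx
      have h1 : x ≫ biprod.desc (kernel.ι φ) β ≫ φ = 0 := by
        rw [← Category.assoc, hx, zero_comp]
      rw [← h1]
      have h2 : biprod.desc (kernel.ι φ) β ≫ φ = biprod.snd ≫ β ≫ φ := by
        apply biprod.hom_ext' <;> simp
      rw [h2, Category.assoc]
    · intro A₀ x hx
      dsimp at hx ⊢
      apply biprod.hom_ext
      · simp only [Category.assoc, biprod.lift_fst, Preadditive.comp_neg]
        rw [← cancel_mono (kernel.ι φ)]
        simp only [κ, Category.assoc, kernel.lift_ι, Preadditive.neg_comp, kernel.lift_ι_assoc]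
        have h3 : x ≫ biprod.desc (kernel.ι φ) β =
            (x ≫ biprod.fst) ≫ kernel.ι φ + (x ≫ biprod.snd) ≫ β := by
          have : x = biprod.lift (x ≫ biprod.fst) (x ≫ biprod.snd) := by
            apply biprod.hom_ext <;> simp
          conv_lhs => rw [this]
          rw [biprod.lift_desc]
        rw [h3] at hx
        simp only [Category.assoc] at hx
        exact (eq_neg_of_add_eq_zero_right hx).symm ▸ (by simp)
      · simp
    · intro A₀ x hx m hm
      dsimp at hm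
      rw [← cancel_mono (kernel.ι (β ≫ φ))]
      simp only [kernel.lift_ι]
      rw [← hm]
      simp
  · rw [epi_iff_surjective_up_to_refinements]
    intro A₀ x
    obtain ⟨A', π, hπ, y, hy⟩ := surjective_up_to_refinements_of_epi (β ≫ φ) (x ≫ φ)
    have h0 : (π ≫ x - y ≫ β) ≫ φ = 0 := by
      rw [Preadditive.sub_comp, Category.assoc, Category.assoc, hy, sub_self]
    refine ⟨A', π, hπ, biprod.lift (kernel.lift φ _ h0) y, ?_⟩
    rw [biprod.lift_desc, kernel.lift_ι]
    abel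

/-- (A4a) -/
lemma exists_exact_pullback_fst {R P₀ F : A} (ρ : R ⟶ F) (π₀ : P₀ ⟶ F) [Epi π₀] :
    ∃ (f : kernel π₀ ⟶ pullback ρ π₀) (w : f ≫ pullback.fst ρ π₀ = 0),
      (ShortComplex.mk f _ w).Exact ∧ Epi (pullback.fst ρ π₀) := by
  have hc : (0 : kernel π₀ ⟶ R) ≫ ρ = kernel.ι π₀ ≫ π₀ := by rw [zero_comp, kernel.condition]
  have w : pullback.lift 0 (kernel.ι π₀) hc ≫ pullback.fst ρ π₀ = 0 := pullback.lift_fst _ _ _
  refine ⟨pullback.lift 0 (kernel.ι π₀) hc, w, ?_, Abelian.epi_pullback_of_epi_g ρ π₀⟩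
  apply ShortComplex.exact_of_f_is_kernel
  refine KernelFork.IsLimit.ofι _ _
    (fun {A₀} x hx => kernel.lift π₀ (x ≫ pullback.snd ρ π₀) ?_) ?_ ?_
  · dsimp at hx
    rw [Category.assoc, ← pullback.condition, ← Category.assoc, hx, zero_comp]
  · intro A₀ x hx
    dsimp at hx ⊢
    apply pullback.hom_ext
    · rw [Category.assoc, pullback.lift_fst, comp_zero, hx]
    · rw [Category.assoc, pullback.lift_snd, kernel.lift_ι]
  · intro A₀ x hx m hm
    dsimp at hm
    rw [← cancel_mono (kernel.ι π₀), kernel.lift_ι, ← hm, Category.assoc, pullback.lift_snd]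

/-- (A4b) -/
lemma epi_kernel_snd_to_kernel {R P₀ F : A} (ρ : R ⟶ F) (π₀ : P₀ ⟶ F) :
    Epi (kernel.lift ρ (kernel.ι (pullback.snd ρ π₀) ≫ pullback.fst ρ π₀) (by
      rw [Category.assoc, pullback.condition, ← Category.assoc, kernel.condition, zero_comp])) := by
  have hc : kernel.ι ρ ≫ ρ = (0 : kernel ρ ⟶ P₀) ≫ π₀ := by rw [zero_comp, kernel.condition]
  let s : kernel ρ ⟶ kernel (pullback.snd ρ π₀) :=
    kernel.lift _ (pullback.lift (kernel.ι ρ) 0 hc) (pullback.lift_snd _ _ _)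
  have hs : s ≫ kernel.lift ρ (kernel.ι (pullback.snd ρ π₀) ≫ pullback.fst ρ π₀) (by
      rw [Category.assoc, pullback.condition, ← Category.assoc, kernel.condition, zero_comp]) =
      𝟙 _ := by
    rw [← cancel_mono (kernel.ι ρ)]
    simp only [s, Category.assoc, kernel.lift_ι, kernel.lift_ι_assoc, Category.id_comp]
    exact pullback.lift_fst _ _ _
  exact epi_of_epi_fac hs

/-- (A5) -/
lemma exists_exact_kernel_ext (S : ShortComplex A) (hS : S.ShortExact) {Q₀ R : A}
    (π₁ : Q₀ ⟶ S.X₁) [Epi π₁] (β : R ⟶ S.X₂) :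
    ∃ (f : kernel π₁ ⟶ kernel (biprod.desc (π₁ ≫ S.f) β))
      (g : kernel (biprod.desc (π₁ ≫ S.f) β) ⟶ kernel (β ≫ S.g)) (w : f ≫ g = 0),
      (ShortComplex.mk f g w).Exact ∧ Epi g := by
  have := hS.mono_f
  have hΦg : biprod.desc (π₁ ≫ S.f) β ≫ S.g = biprod.snd ≫ β ≫ S.g := by
    apply biprod.hom_ext' <;> simp
  have hf : (kernel.ι π₁ ≫ biprod.inl) ≫ biprod.desc (π₁ ≫ S.f) β = 0 := by
    rw [Category.assoc, biprod.inl_desc, ← Category.assoc, kernel.condition, zero_comp]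
  have hg : (kernel.ι (biprod.desc (π₁ ≫ S.f) β) ≫ biprod.snd) ≫ β ≫ S.g = 0 := by
    rw [Category.assoc, ← hΦg, kernel.condition_assoc, zero_comp]
  have w : kernel.lift (biprod.desc (π₁ ≫ S.f) β) (kernel.ι π₁ ≫ biprod.inl) hf ≫
      kernel.lift (β ≫ S.g) (kernel.ι (biprod.desc (π₁ ≫ S.f) β) ≫ biprod.snd) hg = 0 := by
    rw [← cancel_mono (kernel.ι (β ≫ S.g))]
    simp
  refine ⟨_, _, w, ?_, ?_⟩
  · apply ShortComplex.exact_of_f_is_kernel
    have key : ∀ {A₀ : A} (x : A₀ ⟶ kernel (biprod.desc (π₁ ≫ S.f) β)),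
        x ≫ kernel.lift (β ≫ S.g) (kernel.ι (biprod.desc (π₁ ≫ S.f) β) ≫ biprod.snd) hg = 0 →
        x ≫ kernel.ι _ = (x ≫ kernel.ι _ ≫ biprod.fst) ≫ biprod.inl := by
      intro A₀ x hx
      have hx' : x ≫ kernel.ι (biprod.desc (π₁ ≫ S.f) β) ≫ biprod.snd = 0 := by
        have := hx =≫ kernel.ι (β ≫ S.g)
        simpa using this
      apply biprod.hom_ext
      · simp
      · simp [hx']
    refine KernelFork.IsLimit.ofι _ _
      (fun {A₀} x hx => kernel.lift π₁ (x ≫ kernel.ι _ ≫ biprod.fst) ?_) ?_ ?_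
    · dsimp at hx
      rw [← cancel_mono S.f, zero_comp]
      have h1 := key x hx
      have h2 : (x ≫ kernel.ι (biprod.desc (π₁ ≫ S.f) β)) ≫ biprod.desc (π₁ ≫ S.f) β = 0 := by
        rw [Category.assoc, kernel.condition, comp_zero]
      rw [h1, Category.assoc, biprod.inl_desc] at h2
      simpa only [Category.assoc] using h2
    · intro A₀ x hx
      dsimp at hx ⊢
      rw [← cancel_mono (kernel.ι (biprod.desc (π₁ ≫ S.f) β)), Category.assoc, kernel.lift_ι,
        kernel.lift_ι_assoc, key x hx]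
    · intro A₀ x hx m hm
      dsimp at hm
      rw [← cancel_mono (kernel.ι π₁), kernel.lift_ι, ← hm]
      simp
  · rw [epi_iff_surjective_up_to_refinements]
    intro A₀ x
    have h0 : (x ≫ kernel.ι (β ≫ S.g) ≫ β) ≫ S.g = 0 := by
      rw [Category.assoc, Category.assoc, kernel.condition, comp_zero]
    obtain ⟨A', π, hπ, x₁, hx₁⟩ := hS.exact.exact_up_to_refinements _ h0
    obtain ⟨A'', π', hπ', q, hq⟩ := surjective_up_to_refinements_of_epi π₁ x₁
    have hy : biprod.lift (-q) (π' ≫ π ≫ x ≫ kernel.ι (β ≫ S.g)) ≫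
        biprod.desc (π₁ ≫ S.f) β = 0 := by
      rw [biprod.lift_desc, Preadditive.neg_comp, ← Category.assoc q, ← hq]
      simp only [Category.assoc]
      rw [← hx₁]
      simp
    refine ⟨A'', π' ≫ π, epi_comp _ _, kernel.lift _ _ hy, ?_⟩
    rw [← cancel_mono (kernel.ι (β ≫ S.g))]
    simp

/-- (A6) -/
lemma exists_kernel_data {Q₁ Q₀ G F R : A} (ψ : Q₁ ⟶ Q₀) (πG : Q₀ ⟶ G) (w : ψ ≫ πG = 0)
    (hex : (ShortComplex.mk ψ πG w).Exact) (α : F ⟶ G) (ρ : R ⟶ F) [Epi ρ] (β : R ⟶ Q₀)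
    (hβ : β ≫ πG = ρ ≫ α) :
    ∃ (θ : kernel (biprod.desc β ψ) ⟶ kernel α), Epi θ ∧
      ∃ (f : kernel ψ ⟶ kernel θ) (g : kernel θ ⟶ kernel ρ) (w' : f ≫ g = 0),
        (ShortComplex.mk f g w').Exact ∧ Epi g := by
  have hΞ : biprod.desc β ψ ≫ πG = biprod.fst ≫ ρ ≫ α := by
    apply biprod.hom_ext' <;> simp [hβ, w]
  have hθ : (kernel.ι (biprod.desc β ψ) ≫ biprod.fst ≫ ρ) ≫ α = 0 := by
    rw [Category.assoc, Category.assoc, ← hΞ, kernel.condition_assoc, zero_comp]
  let θ : kernel (biprod.desc β ψ) ⟶ kernel α := kernel.lift α _ hθ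
  have hθι : θ ≫ kernel.ι α = kernel.ι (biprod.desc β ψ) ≫ biprod.fst ≫ ρ := kernel.lift_ι _ _ _
  -- lifting elements of `R` killed by `ρ ≫ α` (up to refinement)
  have hlift : ∀ {A₀ : A} (r : A₀ ⟶ R), r ≫ ρ ≫ α = 0 →
      ∃ (A' : A) (π : A' ⟶ A₀) (_ : Epi π) (z : A' ⟶ kernel (biprod.desc β ψ)),
        z ≫ kernel.ι _ ≫ biprod.fst = π ≫ r := by
    intro A₀ r hr
    have h0 : (r ≫ β) ≫ πG = 0 := by rw [Category.assoc, hβ, hr]
    obtain ⟨A', π, hπ, q₁, hq₁⟩ := hex.exact_up_to_refinements _ h0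
    dsimp at q₁ hq₁
    have hy : biprod.lift (π ≫ r) (-q₁) ≫ biprod.desc β ψ = 0 := by
      rw [biprod.lift_desc, Preadditive.neg_comp, ← hq₁]
      simp
    refine ⟨A', π, hπ, kernel.lift _ _ hy, ?_⟩
    simp
  refine ⟨θ, ?_, ?_⟩
  · rw [epi_iff_surjective_up_to_refinements]
    intro A₀ x
    obtain ⟨A', π, hπ, r, hr⟩ := surjective_up_to_refinements_of_epi ρ (x ≫ kernel.ι α)
    have hr0 : r ≫ ρ ≫ α = 0 := by
      rw [← Category.assoc, ← hr, Category.assoc, Category.assoc, kernel.condition, comp_zero,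
        comp_zero]
    obtain ⟨A'', π', hπ', z, hz⟩ := hlift r hr0
    refine ⟨A'', π' ≫ π, epi_comp _ _, z, ?_⟩
    rw [← cancel_mono (kernel.ι α), Category.assoc, Category.assoc, hr, Category.assoc, hθι,
      ← Category.assoc, ← Category.assoc, ← Category.assoc, Category.assoc z, hz]
  · have hf1 : (kernel.ι ψ ≫ biprod.inr) ≫ biprod.desc β ψ = 0 := by
      rw [Category.assoc, biprod.inr_desc, kernel.condition]
    have hf2 : kernel.lift (biprod.desc β ψ) (kernel.ι ψ ≫ biprod.inr) hf1 ≫ θ = 0 := by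
      rw [← cancel_mono (kernel.ι α), Category.assoc, hθι, kernel.lift_ι_assoc]
      simp
    have hg : (kernel.ι θ ≫ kernel.ι (biprod.desc β ψ) ≫ biprod.fst) ≫ ρ = 0 := by
      rw [Category.assoc, Category.assoc, ← hθι, kernel.condition_assoc, zero_comp]
    have w' : kernel.lift θ _ hf2 ≫ kernel.lift ρ _ hg = 0 := by
      rw [← cancel_mono (kernel.ι ρ)]
      simp
    refine ⟨kernel.lift θ _ hf2, kernel.lift ρ _ hg, w', ?_, ?_⟩
    · apply ShortComplex.exact_of_f_is_kernel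
      have key : ∀ {A₀ : A} (x : A₀ ⟶ kernel θ), x ≫ kernel.lift ρ _ hg = 0 →
          x ≫ kernel.ι θ ≫ kernel.ι _ =
            (x ≫ kernel.ι θ ≫ kernel.ι _ ≫ biprod.snd) ≫ biprod.inr := by
        intro A₀ x hx
        have hx' : x ≫ kernel.ι θ ≫ kernel.ι (biprod.desc β ψ) ≫ biprod.fst = 0 := by
          have := hx =≫ kernel.ι ρ
          simpa using this
        apply biprod.hom_ext
        · simp [hx']
        · simp
      refine KernelFork.IsLimit.ofι _ _
        (fun {A₀} x hx => kernel.lift ψ (x ≫ kernel.ι θ ≫ kernel.ι _ ≫ biprod.snd) ?_) ?_ ?_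
      · dsimp at hx
        have h1 := key x hx
        have h2 : (x ≫ kernel.ι θ ≫ kernel.ι (biprod.desc β ψ)) ≫ biprod.desc β ψ = 0 := by
          simp
        rw [h1, Category.assoc, biprod.inr_desc] at h2
        simpa only [Category.assoc] using h2
      · intro A₀ x hx
        dsimp at hx ⊢
        rw [← cancel_mono (kernel.ι θ), ← cancel_mono (kernel.ι (biprod.desc β ψ))]
        simp only [Category.assoc, kernel.lift_ι, kernel.lift_ι_assoc]
        rw [key x hx]
        simp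
      · intro A₀ x hx m hm
        dsimp at hm
        rw [← cancel_mono (kernel.ι ψ), kernel.lift_ι, ← hm]
        simp
    · rw [epi_iff_surjective_up_to_refinements]
      intro A₀ x
      have hr0 : (x ≫ kernel.ι ρ) ≫ ρ ≫ α = 0 := by
        rw [Category.assoc, kernel.condition_assoc, zero_comp, comp_zero]
      obtain ⟨A', π, hπ, z, hz⟩ := hlift _ hr0
      have hzθ : z ≫ θ = 0 := by
        rw [← cancel_mono (kernel.ι α), Category.assoc, hθι, zero_comp, ← Category.assoc,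
          ← Category.assoc, Category.assoc z, hz]
        simp
      refine ⟨A', π, hπ, kernel.lift θ z hzθ, ?_⟩
      rw [← cancel_mono (kernel.ι ρ)]
      simp only [Category.assoc, kernel.lift_ι, kernel.lift_ι_assoc]
      exact hz.symm

/-- the cokernel of a direct sum of maps -/
noncomputable def cokernelBiprodMapIso {P₁ P₀ P₁' P₀' : A} (ψ : P₁ ⟶ P₀) (ψ' : P₁' ⟶ P₀') :
    cokernel (biprod.map ψ ψ') ≅ cokernel ψ ⊞ cokernel ψ' where
  hom := cokernel.desc _ (biprod.map (cokernel.π ψ) (cokernel.π ψ')) (by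
    apply biprod.hom_ext' <;> simp)
  inv := biprod.desc
    (cokernel.desc ψ (biprod.inl ≫ cokernel.π (biprod.map ψ ψ')) (by
      have h := biprod.inl ≫= cokernel.condition (biprod.map ψ ψ')
      rw [biprod.inl_map_assoc, comp_zero] at h
      exact h))
    (cokernel.desc ψ' (biprod.inr ≫ cokernel.π (biprod.map ψ ψ')) (by
      have h := biprod.inr ≫= cokernel.condition (biprod.map ψ ψ')
      rw [biprod.inr_map_assoc, comp_zero] at h
      exact h))
  hom_inv_id := by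
    apply coequalizer.hom_ext
    apply biprod.hom_ext' <;> simp
  inv_hom_id := by
    apply biprod.hom_ext'
    · apply coequalizer.hom_ext
      simp
    · apply coequalizer.hom_ext
      simp

end Groth.Agent.Lib.Helper2.QcSite
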