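import Groth.Agent.Lib.Helper2.QcSite.TypeA
import Groth.Agent.Lib.Helper2.QcSite.AbLemmas

/-!
# Finitely generated modules (quotients of finite sums of `j_{U!} O_U`) and modules of type A:
extensions and kernels
-/

set_option autoImplicit false

universe u

open CategoryTheory CategoryTheory.Limits Opposite

namespace Groth.Agent.Lib.Helper2.QcSite

open Groth.Agent.Lib.Helper17.FreeOn

variable {C : Type u} [SmallCategory C] {J : GrothendieckTopology C} (O : Sheaf J CommRingCat.{u})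

section JMap2

lemma freeOnHomEquiv_jMap {W U : C} (w : W ⟶ U) :
    freeOnHomEquiv (ModSite.freeOn O U) W (jMap O w) =
      (res O w (ModSite.freeOn O U)).hom (freeOnHomEquiv (ModSite.freeOn O U) U (𝟙 _)) := by
  unfold jMap
  rw [Equiv.apply_symm_apply]

lemma jMap_comp {W' W U : C} (a : W' ⟶ W) (b : W ⟶ U) :
    jMap O (a ≫ b) = jMap O a ≫ jMap O b := by
  apply (freeOnHomEquiv (ModSite.freeOn O U) W').injective
  rw [freeOnHomEquiv_jMap_comp, freeOnHomEquiv_jMap, freeOnHomEquiv_jMap, res_comp_apply]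

/-- Morphisms out of `j_{W!} O_W` are sections over `W` (with values in the sections functor). -/
noncomputable def secEquiv (H : ModSite.Mod O) (W : C) :
    (ModSite.freeOn O W ⟶ H) ≃ ((Γ O W).obj H : Type u) :=
  freeOnHomEquiv H W

lemma secEquiv_jMap_comp {W U : C} (w : W ⟶ U) {H : ModSite.Mod O}
    (a : ModSite.freeOn O U ⟶ H) :
    secEquiv O H W (jMap O w ≫ a) = (res O w H).hom (secEquiv O H U a) :=
  freeOnHomEquiv_jMap_comp O w a

/-- Gluing of sections along a covering family, with compatibility on fibre products. -/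
lemma exists_glue [HasPullbacks C] {V : C} (M : ModSite.Mod O) {κ : Type*} (W : κ → C)
    (w : ∀ k, W k ⟶ V) (hcov : Sieve.ofArrows W w ∈ J V) (a : ∀ k, (Γ O (W k)).obj M)
    (hcompat : ∀ k l, (res O (pullback.fst (w k) (w l)) M).hom (a k) =
      (res O (pullback.snd (w k) (w l)) M).hom (a l)) :
    ∃ b : (Γ O V).obj M, ∀ k, (res O (w k) M).hom b = a k := by
  have hs := isSheaf_types M
  have h1 : Presieve.IsSheafFor (M.val.presheaf ⋙ forget Ab) (Presieve.ofArrows W w) :=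
    (Presieve.isSheafFor_iff_generate _).2 (hs _ hcov)
  rw [Presieve.isSheafFor_arrows_iff] at h1
  have hc : Presieve.Arrows.Compatible (M.val.presheaf ⋙ forget Ab) w a := by
    intro k l Z gk gl hkl
    have h2 := congrArg (fun t => (res O (pullback.lift gk gl hkl) M).hom t) (hcompat k l)
    simp only [← res_comp_apply] at h2
    rw [pullback.lift_fst, pullback.lift_snd] at h2
    exact h2
  obtain ⟨b, hb, -⟩ := h1 a hc
  exact ⟨b, hb⟩

end JMap2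

variable (B : Set C)

/-- Quotients of finite sums of `j_{U!} O_U`, `U ∈ B`. -/
def FG (M : ModSite.Mod O) : Prop :=
  ∃ (T : ModSite.Mod O) (τ : T ⟶ M), FinFree O B T ∧ Epi τ

variable {O B}

lemma FinFree.fg {P : ModSite.Mod O} (h : FinFree O B P) : FG O B P :=
  ⟨P, 𝟙 P, h, inferInstance⟩

lemma FG.of_epi' {M N : ModSite.Mod O} (h : FG O B M) (p : M ⟶ N) (hp : Epi p) : FG O B N := by
  obtain ⟨T, τ, hT, hτ⟩ := h
  haveI := hτ
  exact ⟨T, τ ≫ p, hT, epi_comp _ _⟩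

lemma FG.of_iso {M N : ModSite.Mod O} (e : M ≅ N) (h : FG O B M) : FG O B N :=
  h.of_epi' e.hom inferInstance

lemma TypeA.of_iso {F F' : ModSite.Mod O} (h : TypeA O B F) (e : F ≅ F') : TypeA O B F' := by
  obtain ⟨P₁, P₀, ψ, h₁, h₀, ⟨e'⟩⟩ := h
  exact ⟨P₁, P₀, ψ, h₁, h₀, ⟨e.symm ≪≫ e'⟩⟩

lemma TypeA.fg {F : ModSite.Mod O} (h : TypeA O B F) : FG O B F := by
  obtain ⟨P₁, P₀, ψ, h₁, h₀, ⟨e⟩⟩ := h
  exact (h₀.fg.of_epi' (cokernel.π ψ) inferInstance).of_iso e.symm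

lemma FinFree.typeA {T : ModSite.Mod O} (h : FinFree O B T) : TypeA O B T := by
  refine ⟨∐ fun i : PEmpty.{u + 1} => ModSite.freeOn O (PEmpty.elim i), T, 0,
    ⟨PEmpty.{u + 1}, inferInstance, fun i => PEmpty.elim i, fun i => PEmpty.elim i,
      ⟨Iso.refl _⟩⟩, h, ⟨cokernelZeroIsoTarget.symm⟩⟩

/-- the presentation sequence is exact -/
lemma exact_presentation {P₁ P₀ F : ModSite.Mod O} (ψ : P₁ ⟶ P₀) (e : F ≅ cokernel ψ) :
    ∃ w : ψ ≫ (cokernel.π ψ ≫ e.inv) = 0, (ShortComplex.mk ψ (cokernel.π ψ ≫ e.inv) w).Exact := by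
  have w : ψ ≫ (cokernel.π ψ ≫ e.inv) = 0 := by rw [cokernel.condition_assoc, zero_comp]
  refine ⟨w, ?_⟩
  rw [ShortComplex.exact_iff_mono_cokernel_desc]
  have : cokernel.desc ψ (cokernel.π ψ ≫ e.inv) w = e.inv := by
    apply coequalizer.hom_ext
    simp
  dsimp
  rw [this]
  infer_instance

lemma fg_kernel_presentation {P₁ P₀ F : ModSite.Mod O} (ψ : P₁ ⟶ P₀) (hP₁ : FinFree O B P₁)
    (e : F ≅ cokernel ψ) : FG O B (kernel (cokernel.π ψ ≫ e.inv)) := by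
  obtain ⟨w, hex⟩ := exact_presentation ψ e
  exact hP₁.fg.of_epi' (kernel.lift _ ψ w) hex.epi_kernelLift

variable (O B)
variable
  (hB₁ : ∀ X : C, ∃ (κ : Type u) (Y : κ → C) (g : ∀ k, Y k ⟶ X),
    Sieve.ofArrows Y g ∈ J X ∧ ∀ k, Y k ∈ B)
  (hB₂ : ∀ U ∈ B, CohCx.IsQcObject (hSh J U))

include hB₁ hB₂ in
/-- (F1) extensions of finitely generated modules are finitely generated -/
lemma FG.of_exact (S : ShortComplex (ModSite.Mod O)) (hS : S.Exact) [Epi S.g]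
    (h₁ : FG O B S.X₁) (h₃ : FG O B S.X₃) : FG O B S.X₂ := by
  obtain ⟨T₁, τ₁, hT₁, hτ₁⟩ := h₁
  obtain ⟨T₃, τ₃, hT₃, hτ₃⟩ := h₃
  haveI := hτ₁
  haveI := hτ₃
  obtain ⟨R, γ, β, hR, hγ, hβ⟩ := exists_local_lift O B hB₁ hB₂ hT₃ S.g τ₃
  haveI := hγ
  have hβ' : Epi (β ≫ S.g) := by rw [hβ]; exact epi_comp _ _
  exact ⟨T₁ ⊞ R, biprod.desc (τ₁ ≫ S.f) β, hT₁.biprod hR,
    epi_biprod_desc_of_exact S hS τ₁ β hβ'⟩

section Geom

variable [HasPullbacks C]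
  (hB₃ : ∀ (U U₁ U₂ : C) (f₁ : U₁ ⟶ U) (f₂ : U₂ ⟶ U), U ∈ B → U₁ ∈ B → U₂ ∈ B →
      CohCx.IsQcObject (hSh J (pullback f₁ f₂)))

set_option maxHeartbeats 1600000 in
include hB₁ hB₃ in
/-- (F2) the kernel of the map of finite free modules attached to finite `B`-covers is finitely
generated, and the map is an epimorphism. -/
lemma fg_kernel_cover {ι : Type u} [Finite ι] (U : ι → C) (hU : ∀ i, U i ∈ B)
    (κ : ι → Type u) [∀ i, Finite (κ i)] (W : ∀ i, κ i → C) (w : ∀ i k, W i k ⟶ U i)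
    (hW : ∀ i k, W i k ∈ B) (hcov : ∀ i, Sieve.ofArrows (W i) (w i) ∈ J (U i)) :
    Epi (Sigma.desc (fun p : Σ i, κ i => jMap O (w p.1 p.2) ≫
      Sigma.ι (fun i => ModSite.freeOn O (U i)) p.1)) ∧
    FG O B (kernel (Sigma.desc (fun p : Σ i, κ i => jMap O (w p.1 p.2) ≫
      Sigma.ι (fun i => ModSite.freeOn O (U i)) p.1))) := by
  classical
  choose κ₀ Y₀ g₀ hcov₀ hY₀ using hB₁
  -- finite covers of the fibre products
  have hfin : ∀ (i : ι) (k l : κ i), ∃ T : Finset (κ₀ (pullback (w i k) (w i l))),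
      Sieve.ofArrows (fun t : T => Y₀ _ t.1) (fun t : T => g₀ _ t.1) ∈
        J (pullback (w i k) (w i l)) :=
    fun i k l => exists_finset_cover (hB₃ _ _ _ _ _ (hU i) (hW i k) (hW i l)) _ _ (hcov₀ _)
  choose T hT using hfin
  let Q : Type u := Σ (i : ι) (k : κ i) (l : κ i), ↥(T i k l)
  let Y : Q → C := fun q => Y₀ _ q.2.2.2.1
  let y : ∀ q : Q, Y q ⟶ pullback (w q.1 q.2.1) (w q.1 q.2.2.1) := fun q => g₀ _ q.2.2.2.1
  let famW : (Σ i, κ i) → ModSite.Mod O := fun p => ModSite.freeOn O (W p.1 p.2)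
  let famU : ι → ModSite.Mod O := fun i => ModSite.freeOn O (U i)
  let famY : Q → ModSite.Mod O := fun q => ModSite.freeOn O (Y q)
  let γ : ∐ famW ⟶ ∐ famU := Sigma.desc (fun p => jMap O (w p.1 p.2) ≫ Sigma.ι famU p.1)
  let σ : ∐ famY ⟶ ∐ famW := Sigma.desc (fun q =>
    jMap O (y q ≫ pullback.fst _ _) ≫ Sigma.ι famW ⟨q.1, q.2.1⟩ -
    jMap O (y q ≫ pullback.snd _ _) ≫ Sigma.ι famW ⟨q.1, q.2.2.1⟩)
  have hγι : ∀ p, Sigma.ι famW p ≫ γ = jMap O (w p.1 p.2) ≫ Sigma.ι famU p.1 :=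
    fun p => Sigma.ι_desc _ _
  have hσι : ∀ q, Sigma.ι famY q ≫ σ =
      jMap O (y q ≫ pullback.fst _ _) ≫ Sigma.ι famW ⟨q.1, q.2.1⟩ -
      jMap O (y q ≫ pullback.snd _ _) ≫ Sigma.ι famW ⟨q.1, q.2.2.1⟩ :=
    fun q => Sigma.ι_desc _ _
  have hσγ : σ ≫ γ = 0 := by
    apply Sigma.hom_ext
    intro q
    rw [comp_zero, ← Category.assoc, hσι, Preadditive.sub_comp, Category.assoc, Category.assoc,
      hγι, hγι]
    dsimp only
    rw [← Category.assoc, ← Category.assoc, ← jMap_comp, ← jMap_comp, Category.assoc,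
      Category.assoc, pullback.condition, sub_self]
  have hγepi : Epi γ := by
    constructor
    intro H' a b hab
    apply Sigma.hom_ext
    intro i
    refine eq_of_jMap_comp_eq O (W i) (w i) (hcov i) _ _ (fun k => ?_)
    have h3 := Sigma.ι famW ⟨i, k⟩ ≫= hab
    rw [← Category.assoc, ← Category.assoc, hγι] at h3
    simpa only [Category.assoc] using h3
  have key : ∀ {H : ModSite.Mod O} (a : ∐ famW ⟶ H), σ ≫ a = 0 →
      ∃ b : ∐ famU ⟶ H, γ ≫ b = a := by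
    intro H a ha
    have hq : ∀ (i : ι) (k l : κ i) (t : T i k l),
        (res O (g₀ _ t.1) H).hom ((res O (pullback.fst (w i k) (w i l)) H).hom
          (secEquiv O H (W i k) (Sigma.ι famW ⟨i, k⟩ ≫ a))) =
        (res O (g₀ _ t.1) H).hom ((res O (pullback.snd (w i k) (w i l)) H).hom
          (secEquiv O H (W i l) (Sigma.ι famW ⟨i, l⟩ ≫ a))) := by
      intro i k l t
      have h0 : Sigma.ι famY ⟨i, k, l, t⟩ ≫ σ =
          jMap O (g₀ _ t.1 ≫ pullback.fst (w i k) (w i l)) ≫ Sigma.ι famW ⟨i, k⟩ -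
          jMap O (g₀ _ t.1 ≫ pullback.snd (w i k) (w i l)) ≫ Sigma.ι famW ⟨i, l⟩ :=
        hσι ⟨i, k, l, t⟩
      have h1 := Sigma.ι famY ⟨i, k, l, t⟩ ≫= ha
      rw [comp_zero, ← Category.assoc, h0, Preadditive.sub_comp, sub_eq_zero, Category.assoc,
        Category.assoc] at h1
      have h2 := congrArg (fun f => secEquiv O H _ f) h1
      simp only [secEquiv_jMap_comp, res_comp_apply] at h2
      exact h2
    have hcompat : ∀ i (k l : κ i),
        (res O (pullback.fst (w i k) (w i l)) H).hom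
          (secEquiv O H (W i k) (Sigma.ι famW ⟨i, k⟩ ≫ a)) =
        (res O (pullback.snd (w i k) (w i l)) H).hom
          (secEquiv O H (W i l) (Sigma.ι famW ⟨i, l⟩ ≫ a)) := by
      intro i k l
      refine eq_of_res_eq O H _ _ (hT i k l) ?_
      intro V g hg
      obtain ⟨t, c, rfl⟩ := (Sieve.mem_ofArrows_iff _ _ _).1 hg
      rw [res_comp_apply, res_comp_apply, hq i k l t]
    have hglue : ∀ i, ∃ b : (Γ O (U i)).obj H, ∀ k, (res O (w i k) H).hom b =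
        secEquiv O H (W i k) (Sigma.ι famW ⟨i, k⟩ ≫ a) := fun i =>
      exists_glue O H (W i) (w i) (hcov i)
        (fun k => secEquiv O H (W i k) (Sigma.ι famW ⟨i, k⟩ ≫ a)) (hcompat i)
    choose bsec hbsec using hglue
    refine ⟨Sigma.desc (fun i => (secEquiv O H (U i)).symm (bsec i)), ?_⟩
    apply Sigma.hom_ext
    intro p
    obtain ⟨i, k⟩ := p
    have h5 : Sigma.ι famW ⟨i, k⟩ ≫ γ = jMap O (w i k) ≫ Sigma.ι famU i := hγι ⟨i, k⟩
    rw [← Category.assoc, h5, Category.assoc, Sigma.ι_desc]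
    apply (secEquiv O H _).injective
    rw [secEquiv_jMap_comp, Equiv.apply_symm_apply]
    exact hbsec i k
  have hex : (ShortComplex.mk σ γ hσγ).Exact := by
    rw [ShortComplex.exact_iff_mono_cokernel_desc]
    obtain ⟨b, hb⟩ := key (cokernel.π σ) (cokernel.condition σ)
    have hsplit : cokernel.desc σ γ hσγ ≫ b = 𝟙 _ := by
      apply coequalizer.hom_ext
      rw [cokernel.π_desc_assoc, hb]
      exact (Category.comp_id _).symm
    exact mono_of_mono_fac hsplit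
  have hepi : Epi (kernel.lift γ σ hσγ) := hex.epi_kernelLift
  have hQ : Finite Q := inferInstance
  exact ⟨hγepi, ∐ famY, kernel.lift γ σ hσγ, ⟨Q, hQ, Y, fun q => hY₀ _ _, ⟨Iso.refl _⟩⟩, hepi⟩

set_option maxHeartbeats 1600000 in
include hB₁ hB₂ hB₃ in
/-- Local lifting along an epimorphism from a finite free module, with finitely generated
kernel. -/
lemma exists_local_lift' {P : ModSite.Mod O} (hP : FinFree O B P) {G H : ModSite.Mod O}
    (π : G ⟶ H) [Epi π] (s : P ⟶ H) :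
    ∃ (R : ModSite.Mod O) (γ : R ⟶ P) (β : R ⟶ G), FinFree O B R ∧ Epi γ ∧
      β ≫ π = γ ≫ s ∧ FG O B (kernel γ) := by
  classical
  obtain ⟨ι, hι, U, hU, ⟨e⟩⟩ := hP
  have h1 := fun i => exists_local_lift_freeOn O B hB₁ hB₂ (hU i) π
    (Sigma.ι (fun i => ModSite.freeOn O (U i)) i ≫ e.inv ≫ s)
  choose κ hκ W w hW hcov t ht using h1
  haveI := hι
  haveI := hκ
  let fam : (Σ i, κ i) → ModSite.Mod O := fun p => ModSite.freeOn O (W p.1 p.2)
  let γ₀ : ∐ fam ⟶ ∐ fun i => ModSite.freeOn O (U i) :=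
    Sigma.desc (fun p => jMap O (w p.1 p.2) ≫ Sigma.ι (fun i => ModSite.freeOn O (U i)) p.1)
  let β : ∐ fam ⟶ G := Sigma.desc (fun p => t p.1 p.2)
  obtain ⟨hγ₀, hfg⟩ : Epi γ₀ ∧ FG O B (kernel γ₀) :=
    fg_kernel_cover O B hB₁ hB₃ U hU κ W w hW hcov
  have hfin : Finite (Σ i, κ i) := inferInstance
  have hR : FinFree O B (∐ fam) :=
    ⟨Σ i, κ i, hfin, fun p => W p.1 p.2, fun p => hW _ _, ⟨Iso.refl _⟩⟩
  have hfinal : β ≫ π = (γ₀ ≫ e.inv) ≫ s := by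
    apply Sigma.hom_ext
    intro p
    have h4 : Sigma.ι fam p ≫ γ₀ = jMap O (w p.1 p.2) ≫
        Sigma.ι (fun i => ModSite.freeOn O (U i)) p.1 := Sigma.ι_desc _ _
    have h5 : Sigma.ι fam p ≫ β = t p.1 p.2 := Sigma.ι_desc _ _
    rw [← Category.assoc, h5, ht p.1 p.2, Category.assoc, ← Category.assoc (Sigma.ι fam p), h4]
    simp only [Category.assoc]
  exact ⟨∐ fam, γ₀ ≫ e.inv, β, hR, epi_comp _ _, hfinal,
    hfg.of_iso (kernelCompMono γ₀ e.inv).symm⟩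

include hB₁ hB₂ hB₃ in
/-- (F2') the kernel of an epimorphism of finite free modules is finitely generated -/
lemma fg_kernel_of_finFree {T P : ModSite.Mod O} (hT : FinFree O B T) (hP : FinFree O B P)
    (φ : T ⟶ P) [Epi φ] : FG O B (kernel φ) := by
  obtain ⟨R, γ, β, hR, hγ, hβ, hfg⟩ := exists_local_lift' O B hB₁ hB₂ hB₃ hP φ (𝟙 P)
  rw [Category.comp_id] at hβ
  haveI := hγ
  obtain ⟨f, w, hex, hepi⟩ := exists_exact_kernel_biprod φ γ β hβ
  haveI : Epi (ShortComplex.mk f _ w).g := hepi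
  have h2 : FG O B (kernel φ ⊞ R) :=
    FG.of_exact O B hB₁ hB₂ (ShortComplex.mk f _ w) hex hfg hT.fg
  exact h2.of_epi' biprod.fst inferInstance

include hB₁ hB₂ hB₃ in
/-- (F3') the kernel of an epimorphism from a finite free module onto a module of type A is
finitely generated -/
lemma fg_kernel_of_typeA {F R : ModSite.Mod O} (hF : TypeA O B F) (hR : FinFree O B R)
    (ρ : R ⟶ F) [Epi ρ] : FG O B (kernel ρ) := by
  obtain ⟨P₁, P₀, ψ, hP₁, hP₀, ⟨e⟩⟩ := hF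
  haveI : Epi (cokernel.π ψ ≫ e.inv) := epi_comp _ _
  have hk : FG O B (kernel (cokernel.π ψ ≫ e.inv)) := fg_kernel_presentation ψ hP₁ e
  obtain ⟨f, w, hex, hepi⟩ := exists_exact_pullback_fst ρ (cokernel.π ψ ≫ e.inv)
  haveI : Epi (ShortComplex.mk f _ w).g := hepi
  have hE : FG O B (pullback ρ (cokernel.π ψ ≫ e.inv)) :=
    FG.of_exact O B hB₁ hB₂ (ShortComplex.mk f _ w) hex hk hR.fg
  obtain ⟨T, τ, hT, hτ⟩ := hE
  haveI := hτ
  haveI : Epi (pullback.snd ρ (cokernel.π ψ ≫ e.inv)) := Abelian.epi_pullback_of_epi_f _ _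
  haveI : Epi (τ ≫ pullback.snd ρ (cokernel.π ψ ≫ e.inv)) := epi_comp _ _
  have h1 : FG O B (kernel (τ ≫ pullback.snd ρ (cokernel.π ψ ≫ e.inv))) :=
    fg_kernel_of_finFree O B hB₁ hB₂ hB₃ hT hP₀ _
  have h2 : FG O B (kernel (pullback.snd ρ (cokernel.π ψ ≫ e.inv))) :=
    h1.of_epi' _ (epi_kernel_lift_of_epi τ _)
  exact h2.of_epi' _ (epi_kernel_snd_to_kernel ρ _)

include hB₁ hB₂ hB₃ in
/-- **S9116-type statement**: type A is closed under extensions. -/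
theorem typeA_extension (S : ShortComplex (ModSite.Mod O)) (hS : S.ShortExact)
    (h₁ : TypeA O B S.X₁) (h₃ : TypeA O B S.X₃) : TypeA O B S.X₂ := by
  have := hS.epi_g
  obtain ⟨Q₁, Q₀, ψ₁, hQ₁, hQ₀, ⟨e₁⟩⟩ := h₁
  obtain ⟨P₁, P₀, ψ₃, hP₁, hP₀, ⟨e₃⟩⟩ := id h₃
  haveI : Epi (cokernel.π ψ₁ ≫ e₁.inv) := epi_comp _ _
  haveI : Epi (cokernel.π ψ₃ ≫ e₃.inv) := epi_comp _ _
  obtain ⟨R, γ, β, hR, hγ, hβ⟩ := exists_local_lift O B hB₁ hB₂ hP₀ S.g (cokernel.π ψ₃ ≫ e₃.inv)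
  haveI := hγ
  have hρ : Epi (β ≫ S.g) := by rw [hβ]; exact epi_comp _ _
  haveI := hρ
  have hΦ : Epi (biprod.desc ((cokernel.π ψ₁ ≫ e₁.inv) ≫ S.f) β) :=
    epi_biprod_desc_of_exact S hS.exact _ β hρ
  have hk₁ : FG O B (kernel (cokernel.π ψ₁ ≫ e₁.inv)) := fg_kernel_presentation ψ₁ hQ₁ e₁
  have hk₃ : FG O B (kernel (β ≫ S.g)) := fg_kernel_of_typeA O B hB₁ hB₂ hB₃ h₃ hR (β ≫ S.g)
  obtain ⟨f, g, w, hex, hepi⟩ := exists_exact_kernel_ext S hS (cokernel.π ψ₁ ≫ e₁.inv) β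
  haveI : Epi (ShortComplex.mk f g w).g := hepi
  have hkΦ : FG O B (kernel (biprod.desc ((cokernel.π ψ₁ ≫ e₁.inv) ≫ S.f) β)) :=
    FG.of_exact O B hB₁ hB₂ (ShortComplex.mk f g w) hex hk₁ hk₃
  obtain ⟨T, τ, hT, hτ⟩ := hkΦ
  haveI := hτ
  refine ⟨T, Q₀ ⊞ R, τ ≫ kernel.ι _, hT, hQ₀.biprod hR, ⟨?_⟩⟩
  exact IsColimit.coconePointUniqueUpToIso
    (Abelian.epiIsCokernelOfKernel _ (kernelIsKernel (biprod.desc ((cokernel.π ψ₁ ≫ e₁.inv) ≫ S.f) β)))
    (cokernelIsCokernel (kernel.ι (biprod.desc ((cokernel.π ψ₁ ≫ e₁.inv) ≫ S.f) β))) ≪≫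
    (cokernelEpiComp τ (kernel.ι _)).symm

include hB₁ hB₂ hB₃ in
/-- **S9117-type statement**: if kernels of maps of finite free modules are of type A, then type A
is closed under kernels. -/
theorem typeA_kernel
    (hker : ∀ {T P : ModSite.Mod O} (φ : T ⟶ P), FinFree O B T → FinFree O B P →
      TypeA O B (kernel φ))
    {F G : ModSite.Mod O} (α : F ⟶ G) (hF : TypeA O B F) (hG : TypeA O B G) :
    TypeA O B (kernel α) := by
  obtain ⟨P₁, P₀, ψF, hP₁, hP₀, ⟨eF⟩⟩ := id hF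
  obtain ⟨Q₁, Q₀, ψG, hQ₁, hQ₀, ⟨eG⟩⟩ := hG
  haveI : Epi (cokernel.π ψF ≫ eF.inv) := epi_comp _ _
  haveI : Epi (cokernel.π ψG ≫ eG.inv) := epi_comp _ _
  obtain ⟨R, γ, β, hR, hγ, hβ⟩ := exists_local_lift O B hB₁ hB₂ hP₀ (cokernel.π ψG ≫ eG.inv)
    ((cokernel.π ψF ≫ eF.inv) ≫ α)
  haveI := hγ
  haveI : Epi (γ ≫ cokernel.π ψF ≫ eF.inv) := epi_comp _ _
  obtain ⟨hw, hex⟩ := exact_presentation ψG eG
  have hβ' : β ≫ (cokernel.π ψG ≫ eG.inv) = (γ ≫ cokernel.π ψF ≫ eF.inv) ≫ α := by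
    rw [hβ]
    simp only [Category.assoc]
  obtain ⟨θ, hθ, f, g, w', hex', hepi'⟩ :=
    exists_kernel_data ψG (cokernel.π ψG ≫ eG.inv) hw hex α (γ ≫ cokernel.π ψF ≫ eF.inv) β hβ'
  haveI := hθ
  have hK₁ : TypeA O B (kernel (biprod.desc β ψG)) := hker _ (hR.biprod hQ₁) hQ₀
  have hkψ : FG O B (kernel ψG) := (hker ψG hQ₁ hQ₀).fg
  have hkρ : FG O B (kernel (γ ≫ cokernel.π ψF ≫ eF.inv)) :=
    fg_kernel_of_typeA O B hB₁ hB₂ hB₃ hF hR _
  haveI : Epi (ShortComplex.mk f g w').g := hepi'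
  have hkθ : FG O B (kernel θ) := FG.of_exact O B hB₁ hB₂ (ShortComplex.mk f g w') hex' hkψ hkρ
  obtain ⟨T, τ, hT, hτ⟩ := hkθ
  haveI := hτ
  have h := typeA_cokernel O B hB₁ hB₂ (τ ≫ kernel.ι θ) hT.typeA hK₁
  refine h.of_iso (cokernelEpiComp τ (kernel.ι θ) ≪≫ ?_)
  exact (IsColimit.coconePointUniqueUpToIso
    (Abelian.epiIsCokernelOfKernel _ (kernelIsKernel θ))
    (cokernelIsCokernel (kernel.ι θ))).symm

omit [HasPullbacks C] in
/-- conversion of the hypothesis on kernels -/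
lemma typeA_kernel_of_fin
    (hker : ∀ (m n : ℕ) (V : Fin m → C) (U : Fin n → C)
      (φ : (∐ fun j => ModSite.freeOn O (V j)) ⟶ ∐ fun i => ModSite.freeOn O (U i)),
      (∀ j, V j ∈ B) → (∀ i, U i ∈ B) → TypeA' O B (kernel φ))
    {T P : ModSite.Mod O} (φ : T ⟶ P) (hT : FinFree O B T) (hP : FinFree O B P) :
    TypeA O B (kernel φ) := by
  obtain ⟨m, V, hV, ⟨e₁⟩⟩ := hT.exists_fin
  obtain ⟨n, U, hU, ⟨e₀⟩⟩ := hP.exists_fin
  have h := hker m n V U (e₁.inv ≫ φ ≫ e₀.hom) hV hU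
  rw [← typeA_iff] at h
  refine h.of_iso ?_
  exact kernel.mapIso _ _ e₁.symm e₀.symm (by simp)

end Geom

end Groth.Agent.Lib.Helper2.QcSite
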