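import Groth.Agent.Lib.Helper2.QcSite.FG
import Groth.Agent.S0484

/-!
# Every module on a ringed site with a quasi-compact generating family is a filtered colimit of
modules of type A
-/

set_option autoImplicit false

universe u

open CategoryTheory CategoryTheory.Limits Opposite

namespace Groth.Agent.Lib.Helper2.QcSite

open Groth.Agent.Lib.Helper17.FreeOn

variable {C : Type u} [SmallCategory C] {J : GrothendieckTopology C} (O : Sheaf J CommRingCat.{u})

section LocFactor

variable {Λ : Type u} [SmallCategory Λ] [IsFiltered Λ] (D : Λ ⥤ ModSite.Mod O) (c : Cocone D)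
  (hc : IsColimit c)

set_option maxHeartbeats 1600000 in
include hc in
/-- Sections of a filtered colimit of sheaves of modules come locally from the terms. -/
theorem exists_cover_factor (V : C) (s : (Γ O V).obj c.pt) :
    ∃ S ∈ J V, ∀ ⦃W : C⦄ (g : W ⟶ V), S g → ∃ (l : Λ) (x : (Γ O W).obj (D.obj l)),
      ((Γ O W).map (c.ι.app l)).hom x = (res O g c.pt).hom s := by
  classical
  let R₀ := (ModSite.ringSh O).obj
  let a := PresheafOfModules.sheafification.{u} (𝟙 R₀)
  let G := SheafOfModules.forget (ModSite.ringSh O) ⋙ PresheafOfModules.restrictScalars (𝟙 R₀)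
  let adj : a ⊣ G := PresheafOfModules.sheafificationAdjunction (𝟙 R₀)
  let P : Λ ⥤ PresheafOfModules.{u} R₀ := D ⋙ G
  let ψ : colimit P ⟶ G.obj c.pt := colimit.desc P (G.mapCocone c)
  let ψs : a.obj (colimit P) ⟶ c.pt := (adj.homEquiv _ _).symm ψ
  let φc : Cocone D := ⟨a.obj (colimit P),
    { app := fun l => inv (adj.counit.app (D.obj l)) ≫ a.map (colimit.ι P l)
      naturality := by
        intro l l' f
        dsimp
        rw [Category.comp_id]
        have h1 : a.map (G.map (D.map f)) ≫ adj.counit.app (D.obj l') =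
            adj.counit.app (D.obj l) ≫ D.map f := adj.counit_naturality (D.map f)
        have h2 : a.map (G.map (D.map f)) ≫ a.map (colimit.ι P l') = a.map (colimit.ι P l) := by
          rw [← a.map_comp]
          congr 1
          exact colimit.w P f
        rw [← h2, ← Category.assoc, ← Category.assoc]
        congr 1
        rw [IsIso.comp_inv_eq, Category.assoc, h1, IsIso.inv_hom_id_assoc] }⟩
  let φ : c.pt ⟶ a.obj (colimit P) := hc.desc φc
  have hφ : ∀ l, c.ι.app l ≫ φ = inv (adj.counit.app (D.obj l)) ≫ a.map (colimit.ι P l) :=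
    fun l => hc.fac φc l
  have hφψ : φ ≫ ψs = 𝟙 _ := by
    refine hc.hom_ext (fun l => ?_)
    rw [reassoc_of% (hφ l), Category.comp_id]
    have h1 : a.map (colimit.ι P l) ≫ ψs = (adj.homEquiv _ _).symm (colimit.ι P l ≫ ψ) :=
      (Adjunction.homEquiv_naturality_left_symm adj (colimit.ι P l) ψ).symm
    have h2 : colimit.ι P l ≫ ψ = G.map (c.ι.app l) := colimit.ι_desc _ _
    rw [h1, h2, Adjunction.homEquiv_counit, adj.counit_naturality, IsIso.inv_hom_id_assoc]
  have hunit : adj.unit.app (colimit P) ≫ G.map ψs = ψ := by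
    have := adj.homEquiv_unit (f := ψs)
    rw [← this]
    exact Equiv.apply_symm_apply _ _
  let y : (Γ O V).obj (a.obj (colimit P)) := ((Γ O V).map φ).hom s
  have hy : ((Γ O V).map ψs).hom y = s := by
    have := congrArg (fun f => ((Γ O V).map f).hom s) hφψ
    simp only [Functor.map_comp, CategoryTheory.Functor.map_id] at this
    exact this
  refine ⟨_, Presheaf.imageSieve_mem J (toSheafify J (colimit P).presheaf) y, ?_⟩
  intro W g hg
  obtain ⟨σ, hσ⟩ := hg
  have hσ' : (res O g c.pt).hom s = ((ψ.app (op W)).hom σ : c.pt.val.obj (op W)) := by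
    rw [← hy, res_naturality_apply]
    have h3 : (res O g (a.obj (colimit P))).hom y =
        (toSheafify J (colimit P).presheaf).app (op W) σ := hσ.symm
    rw [h3]
    have h4 := congrArg (fun f => (f.app (op W)).hom σ) hunit
    exact h4
  let E := PresheafOfModules.evaluation.{u} R₀ (op W)
  have hE : IsColimit (E.mapCocone (colimit.cocone P)) :=
    isColimitOfPreserves E (colimit.isColimit P)
  obtain ⟨l, z, hz⟩ := Concrete.isColimit_exists_rep (P ⋙ E) hE σ
  refine ⟨l, z, ?_⟩
  rw [hσ', ← hz]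
  have h5 : colimit.ι P l ≫ ψ = G.map (c.ι.app l) := colimit.ι_desc _ _
  exact (congrArg (fun f => (f.app (op W)).hom z) h5).symm

include hc in
/-- morphism version of `exists_cover_factor` -/
theorem exists_cover_factor_freeOn {U : C} (s : ModSite.freeOn O U ⟶ c.pt) :
    ∃ S ∈ J U, ∀ ⦃W : C⦄ (g : W ⟶ U), S g → ∃ (l : Λ) (t : ModSite.freeOn O W ⟶ D.obj l),
      t ≫ c.ι.app l = jMap O g ≫ s := by
  obtain ⟨S, hS, h⟩ := exists_cover_factor O D c hc U (secEquiv O c.pt U s)
  refine ⟨S, hS, fun W g hg => ?_⟩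
  obtain ⟨l, x, hx⟩ := h g hg
  refine ⟨l, (secEquiv O (D.obj l) W).symm x, ?_⟩
  apply (secEquiv O c.pt W).injective
  rw [secEquiv_jMap_comp, ← hx]
  have h1 := freeOnHomEquiv_comp W ((secEquiv O (D.obj l) W).symm x) (c.ι.app l)
  have h2 : freeOnHomEquiv (D.obj l) W ((secEquiv O (D.obj l) W).symm x) = x :=
    Equiv.apply_symm_apply (secEquiv O (D.obj l) W) x
  rw [h2] at h1
  exact h1

end LocFactor

section Cover

variable (B : Set C)
  (hB₁ : ∀ X : C, ∃ (κ : Type u) (Y : κ → C) (g : ∀ k, Y k ⟶ X),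
    Sieve.ofArrows Y g ∈ J X ∧ ∀ k, Y k ∈ B)
  (hB₂ : ∀ U ∈ B, CohCx.IsQcObject (hSh J U))

include hB₁ hB₂ in
/-- A covering sieve of a member of `B` contains a finite covering family of members of `B`. -/
lemma exists_finite_B_cover {U : C} (hU : U ∈ B) (S : Sieve U) (hS : S ∈ J U) :
    ∃ (κ : Type u) (_ : Finite κ) (W : κ → C) (w : ∀ k, W k ⟶ U), (∀ k, W k ∈ B) ∧
      Sieve.ofArrows W w ∈ J U ∧ ∀ k, S (w k) := by
  classical
  choose κ₀ Y₀ g₀ hcov₀ hY₀ using hB₁
  let I : Type u := Σ (V : C) (g : {g : V ⟶ U // S g}), κ₀ V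
  let VV : I → C := fun i => Y₀ i.1 i.2.2
  let gg : ∀ i : I, VV i ⟶ U := fun i => g₀ i.1 i.2.2 ≫ i.2.1.1
  have hcov : Sieve.ofArrows VV gg ∈ J U := by
    refine J.transitive hS _ (fun V g hg => ?_)
    refine J.superset_covering ?_ (hcov₀ V)
    intro V' a ha
    obtain ⟨k, c, rfl⟩ := (Sieve.mem_ofArrows_iff _ _ _).1 ha
    exact (Sieve.mem_ofArrows_iff _ _ _).2 ⟨⟨V, ⟨g, hg⟩, k⟩, c, by simp [gg]⟩
  obtain ⟨T, hT⟩ := exists_finset_cover (hB₂ U hU) VV gg hcov
  exact ⟨T, inferInstance, fun i => VV i.1, fun i => gg i.1, fun i => hY₀ _ _, hT,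
    fun i => S.downward_closed i.1.2.1.2 _⟩

end Cover

section Lam

variable (B : Set C) (F : ModSite.Mod O)

/-- A finite presentation by modules `j_{U!} O_U` with `U ∈ B`, with a map to `F`. -/
structure PresData where
  /-- number of relations -/
  m : ℕ
  /-- number of generators -/
  n : ℕ
  /-- objects for relations -/
  V : Fin m → C
  /-- objects for generators -/
  U : Fin n → C
  hV : ∀ j, V j ∈ B
  hU : ∀ i, U i ∈ B
  /-- the presentation map -/
  ψ : (∐ fun j => ModSite.freeOn O (V j)) ⟶ ∐ fun i => ModSite.freeOn O (U i)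
  /-- the map to `F` -/
  φ : cokernel ψ ⟶ F

variable {O B F}

/-- the object over `F` -/
noncomputable def PresData.toOver (d : PresData O B F) : Over F := Over.mk d.φ

variable (O B F) in
/-- The small category of modules of type A over `F`. -/
abbrev Lam : Type u := InducedCategory (Over F) (PresData.toOver (O := O) (B := B) (F := F))

lemma PresData.typeA (d : PresData O B F) : TypeA O B (cokernel d.ψ) :=
  (typeA_iff O B _).2 ⟨d.m, d.n, d.V, d.U, d.ψ, d.hV, d.hU, ⟨Iso.refl _⟩⟩

lemma exists_presData {G : ModSite.Mod O} (hG : TypeA O B G) (φ : G ⟶ F) :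
    ∃ (d : PresData O B F) (e : G ≅ cokernel d.ψ), e.hom ≫ d.φ = φ := by
  obtain ⟨m, n, V, U, ψ, hV, hU, ⟨e⟩⟩ := (typeA_iff O B G).1 hG
  exact ⟨⟨m, n, V, U, hV, hU, ψ, e.inv ≫ φ⟩, e, by simp⟩

lemma TypeA.biprod {G G' : ModSite.Mod O} (h : TypeA O B G) (h' : TypeA O B G') :
    TypeA O B (G ⊞ G') := by
  obtain ⟨P₁, P₀, ψ, h₁, h₀, ⟨e⟩⟩ := h
  obtain ⟨P₁', P₀', ψ', h₁', h₀', ⟨e'⟩⟩ := h'
  exact ⟨P₁ ⊞ P₁', P₀ ⊞ P₀', biprod.map ψ ψ', h₁.biprod h₁', h₀.biprod h₀',
    ⟨biprod.mapIso e e' ≪≫ (cokernelBiprodMapIso ψ ψ').symm⟩⟩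

lemma FinFree.single {U : C} (hU : U ∈ B) : FinFree O B (ModSite.freeOn O U) :=
  ⟨PUnit.{u + 1}, inferInstance, fun _ => U, fun _ => hU,
    ⟨(coproductUniqueIso (fun _ : PUnit.{u + 1} => ModSite.freeOn O U)).symm⟩⟩

variable (O B F) in
/-- the diagram of modules of type A over `F` -/
noncomputable def lamDiag : Lam O B F ⥤ ModSite.Mod O := inducedFunctor _ ⋙ Over.forget F

variable (O B F) in
/-- the canonical cocone -/
noncomputable def lamι : lamDiag O B F ⟶ (Functor.const _).obj F where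
  app d := PresData.φ d
  naturality d d' f := by
    have h := Over.w f.hom
    dsimp [lamDiag]
    rw [Category.comp_id]
    exact h

/-- the structure map, with codomain syntactically `F` -/
noncomputable def lamφ (d : Lam O B F) : (lamDiag O B F).obj d ⟶ F := (lamι O B F).app d

lemma lamDiag_map_lamφ {d d' : Lam O B F} (f : d ⟶ d') :
    (lamDiag O B F).map f ≫ lamφ d' = lamφ d := Over.w f.hom

lemma lam_typeA (d : Lam O B F) : TypeA O B ((lamDiag O B F).obj d) := PresData.typeA d

lemma exists_lam {G : ModSite.Mod O} (hG : TypeA O B G) (φ : G ⟶ F) :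
    ∃ (d : Lam O B F) (e : G ≅ (lamDiag O B F).obj d), e.hom ≫ lamφ d = φ :=
  exists_presData hG φ

/-- constructor for morphisms of `Lam` -/
noncomputable def lamHomMk {d d' : Lam O B F} (a : (lamDiag O B F).obj d ⟶ (lamDiag O B F).obj d')
    (h : a ≫ lamφ d' = lamφ d) : d ⟶ d' :=
  InducedCategory.homMk (Over.homMk a h)

lemma lamDiag_map_lamHomMk {d d' : Lam O B F}
    (a : (lamDiag O B F).obj d ⟶ (lamDiag O B F).obj d')
    (h : a ≫ lamφ d' = lamφ d) :
    (lamDiag O B F).map (lamHomMk a h) = a := rfl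

lemma lam_hom_ext {d d' : Lam O B F} (f g : d ⟶ d')
    (h : (lamDiag O B F).map f = (lamDiag O B F).map g) : f = g := by
  apply InducedCategory.hom_ext
  apply Over.OverMorphism.ext
  exact h

variable
  (hB₁ : ∀ X : C, ∃ (κ : Type u) (Y : κ → C) (g : ∀ k, Y k ⟶ X),
    Sieve.ofArrows Y g ∈ J X ∧ ∀ k, Y k ∈ B)
  (hB₂ : ∀ U ∈ B, CohCx.IsQcObject (hSh J U))

include hB₁ hB₂ in
lemma isFiltered_lam : IsFiltered (Lam O B F) := by
  haveI : IsFilteredOrEmpty (Lam O B F) := by
    refine ⟨fun d d' => ?_, fun d d' f g => ?_⟩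
    · obtain ⟨d'', e, he⟩ := exists_lam (F := F) ((lam_typeA d).biprod (lam_typeA d'))
        (biprod.desc (lamφ d) (lamφ d'))
      have h1 : (biprod.inl ≫ e.hom) ≫ lamφ d'' = lamφ d := by
        rw [Category.assoc, he, biprod.inl_desc]
      have h2 : (biprod.inr ≫ e.hom) ≫ lamφ d'' = lamφ d' := by
        rw [Category.assoc, he, biprod.inr_desc]
      exact ⟨d'', lamHomMk _ h1, lamHomMk _ h2, trivial⟩
    · have h1 : (lamDiag O B F).map f ≫ lamφ d' = lamφ d := lamDiag_map_lamφ f
      have h2 : (lamDiag O B F).map g ≫ lamφ d' = lamφ d := lamDiag_map_lamφ g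
      have hδ : ((lamDiag O B F).map f - (lamDiag O B F).map g) ≫ lamφ d' = 0 := by
        rw [Preadditive.sub_comp, h1, h2, sub_self]
      obtain ⟨d'', e, he⟩ := exists_lam (F := F)
        (typeA_cokernel O B hB₁ hB₂ ((lamDiag O B F).map f - (lamDiag O B F).map g)
          (lam_typeA d) (lam_typeA d')) (cokernel.desc _ (lamφ d') hδ)
      have h3 : (cokernel.π ((lamDiag O B F).map f - (lamDiag O B F).map g) ≫ e.hom) ≫
          lamφ d'' = lamφ d' := by
        rw [Category.assoc, he, cokernel.π_desc]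
      refine ⟨d'', lamHomMk _ h3, ?_⟩
      apply lam_hom_ext
      rw [Functor.map_comp, Functor.map_comp, lamDiag_map_lamHomMk, ← sub_eq_zero,
        ← Preadditive.sub_comp, cokernel.condition_assoc, zero_comp]
  haveI : Nonempty (Lam O B F) := by
    have h0 : FinFree O B (∐ fun i : PEmpty.{u + 1} => ModSite.freeOn O (PEmpty.elim i)) :=
      ⟨PEmpty.{u + 1}, inferInstance, fun i => PEmpty.elim i, fun i => PEmpty.elim i,
        ⟨Iso.refl _⟩⟩
    obtain ⟨d, -, -⟩ := exists_lam (F := F) h0.typeA 0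
    exact ⟨d⟩
  exact {}

set_option maxHeartbeats 1600000 in
include hB₁ hB₂ in
/-- **S9114-type statement** -/
theorem isColimit_lam : Nonempty (IsColimit (Cocone.mk F (lamι O B F))) := by
  classical
  haveI := isFiltered_lam (O := O) (B := B) (F := F) hB₁ hB₂
  haveI := Groth.Agent.S0484.result J (ModSite.ringSh O)
  let c : colimit (lamDiag O B F) ⟶ F :=
    colimit.desc (lamDiag O B F) (Cocone.mk F (lamι O B F))
  have hcι : ∀ d, colimit.ι (lamDiag O B F) d ≫ c = lamφ d :=
    fun d => colimit.ι_desc _ _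
  have hsep := freeOn_isSeparating O B hB₁
  have key : ∀ (U : C), U ∈ B → ∀ s : ModSite.freeOn O U ⟶ colimit (lamDiag O B F),
      s ≫ c = 0 → s = 0 := by
    intro U hU s hs
    obtain ⟨S, hS, hfac⟩ := exists_cover_factor_freeOn O (lamDiag O B F)
      (colimit.cocone (lamDiag O B F)) (colimit.isColimit (lamDiag O B F)) s
    obtain ⟨κ, hκ, W, w, hW, hcov, hSw⟩ := exists_finite_B_cover B hB₁ hB₂ hU S hS
    have h1 := fun k => hfac (w k) (hSw k)
    choose l t ht using h1
    haveI := hκ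
    haveI := Fintype.ofFinite κ
    obtain ⟨l₀, hl₀⟩ := IsFiltered.sup_objs_exists (Finset.univ.image l)
    have hf : ∀ k, Nonempty (l k ⟶ l₀) :=
      fun k => hl₀ (Finset.mem_image_of_mem l (Finset.mem_univ k))
    let t' : ∀ k, ModSite.freeOn O (W k) ⟶ (lamDiag O B F).obj l₀ :=
      fun k => t k ≫ (lamDiag O B F).map (hf k).some
    have ht' : ∀ k, t' k ≫ colimit.ι (lamDiag O B F) l₀ = jMap O (w k) ≫ s := by
      intro k
      rw [Category.assoc, colimit.w]
      exact ht k
    have hτφ : Sigma.desc t' ≫ lamφ l₀ = 0 := by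
      apply Sigma.hom_ext
      intro k
      rw [comp_zero, ← Category.assoc, Sigma.ι_desc, ← hcι l₀, ← Category.assoc, ht' k,
        Category.assoc, hs, comp_zero]
    have hT : FinFree O B (∐ fun k => ModSite.freeOn O (W k)) := ⟨κ, hκ, W, hW, ⟨Iso.refl _⟩⟩
    obtain ⟨d', e, he⟩ := exists_lam (F := F)
      (typeA_cokernel O B hB₁ hB₂ (Sigma.desc t') hT.typeA (lam_typeA l₀))
      (cokernel.desc (Sigma.desc t') (lamφ l₀) hτφ)
    have h3 : (cokernel.π (Sigma.desc t') ≫ e.hom) ≫ lamφ d' =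
        lamφ l₀ := by
      rw [Category.assoc, he, cokernel.π_desc]
    refine eq_of_jMap_comp_eq O W w hcov s 0 (fun k => ?_)
    have h4 : t' k ≫ cokernel.π (Sigma.desc t') = 0 := by
      rw [← Sigma.ι_desc t' k, Category.assoc, cokernel.condition, comp_zero]
    have h5 : jMap O (w k) ≫ s =
        t' k ≫ (cokernel.π (Sigma.desc t') ≫ e.hom) ≫ colimit.ι (lamDiag O B F) d' := by
      rw [← ht' k, ← colimit.w (lamDiag O B F) (lamHomMk _ h3), lamDiag_map_lamHomMk]
    rw [comp_zero, h5, ← Category.assoc, ← Category.assoc, h4, zero_comp, zero_comp]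
  have hepi : Epi c := by
    apply Abelian.epi_of_cokernel_π_eq_zero
    apply hsep
    rintro G ⟨⟨U, hU⟩⟩ h
    rw [comp_zero]
    obtain ⟨d, e, he⟩ := exists_lam (F := F) (B := B) (FinFree.single hU).typeA h
    rw [← he, ← hcι d, Category.assoc, Category.assoc, cokernel.condition, comp_zero, comp_zero]
  have hmono : Mono c := by
    apply Abelian.mono_of_kernel_ι_eq_zero
    apply hsep
    rintro G ⟨⟨U, hU⟩⟩ h
    rw [comp_zero]
    have hs : (h ≫ kernel.ι c) ≫ c = 0 := by rw [Category.assoc, kernel.condition, comp_zero]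
    exact key U hU (h ≫ kernel.ι c) hs
  haveI : IsIso c := isIso_of_mono_of_epi c
  exact ⟨IsColimit.ofIsoColimit (colimit.isColimit (lamDiag O B F))
    (Cocone.ext (asIso c) (fun d => hcι d))⟩

end Lam

end Groth.Agent.Lib.Helper2.QcSite
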