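import Groth.Agent.Lib.Helper2.QcSite.Sections

/-!
# The finite-subcover property, and compact opens of a topological space
-/

set_option autoImplicit false

universe u

open CategoryTheory CategoryTheory.Limits Opposite TopologicalSpace

namespace Groth.Agent.Lib.Helper2.QcSite

open Groth.Agent.Lib.Helper2.CptD

variable {C : Type u} [SmallCategory C] {J : GrothendieckTopology C}

/-- Every covering family has a finite covering subfamily. -/
def FinCover (J : GrothendieckTopology C) (W : C) : Prop :=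
  ∀ {I : Type u} (V : I → C) (g : ∀ i, V i ⟶ W), Sieve.ofArrows V g ∈ J W →
    ∃ T : Finset I, Sieve.ofArrows (fun i : T => V i.1) (fun i : T => g i.1) ∈ J W

lemma finCover_of_isQcObject {W : C} (hW : CohCx.IsQcObject (hSh J W)) : FinCover J W :=
  fun V g hcov => exists_finset_cover hW V g hcov

variable (O : Sheaf J CommRingCat.{u})

/-- Over an object with the finite-subcover property every section of a coproduct is fixed by a
finite projector. -/
theorem exists_fix_of_finCover {W : C} (hW : FinCover J W) {ι : Type u}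
    (F : ι → ModSite.Mod O) (c : Cofan F) (hc : IsColimit c) (s : (Γ O W).obj c.pt) :
    ∃ t : Finset ι, ((Γ O W).map (proj c hc t)).hom s = s := by
  classical
  obtain ⟨S, hS, hfix⟩ := exists_cover_fix O F c hc W s
  let I : Type u := Σ (t : Finset ι) (V : C), {g : V ⟶ W //
    ((Γ O V).map (proj c hc t)).hom ((res O g c.pt).hom s) = (res O g c.pt).hom s}
  let VV : I → C := fun i => i.2.1
  let gg : ∀ i : I, VV i ⟶ W := fun i => i.2.2.1
  have hcov : Sieve.ofArrows VV gg ∈ J W := by
    refine J.superset_covering ?_ hS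
    intro V g hg
    obtain ⟨t, ht⟩ := hfix g hg
    exact (Sieve.mem_ofArrows_iff _ _ _).2 ⟨⟨t, V, g, ht⟩, 𝟙 _, (Category.id_comp _).symm⟩
  obtain ⟨T, hT⟩ := hW VV gg hcov
  let tt : Finset ι := T.sup (fun i => i.1)
  refine ⟨tt, ?_⟩
  refine eq_of_res_eq O c.pt _ _ hT ?_
  intro V g hg
  obtain ⟨i, a, ha⟩ := (Sieve.mem_ofArrows_iff _ _ _).1 hg
  have hi : i.1.1 ⊆ tt := Finset.le_sup (f := fun i : I => i.1) i.2
  have h1 := fix_mono_apply O F c hc hi _ i.1.2.2.2
  rw [res_naturality_apply, ha, res_comp_apply]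
  change ((Γ O V).map (proj c hc tt)).hom ((res O a c.pt).hom ((res O (gg i.1) c.pt).hom s)) =
    (res O a c.pt).hom ((res O (gg i.1) c.pt).hom s)
  rw [← res_naturality_apply]
  exact congrArg (fun w => (res O a c.pt).hom w) h1

/-- A compact open of a topological space has the finite-subcover property. -/
lemma finCover_of_isCompact {X : TopCat.{u}} (U : Opens X) (hU : IsCompact (U : Set X)) :
    FinCover (Opens.grothendieckTopology X) U := by
  intro I V g hcov
  have hsub : (U : Set X) ⊆ ⋃ i, (V i : Set X) := by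
    intro x hx
    obtain ⟨U', f, hf, hxU'⟩ := hcov x hx
    obtain ⟨i, a, -⟩ := (Sieve.mem_ofArrows_iff _ _ _).1 hf
    exact Set.mem_iUnion.2 ⟨i, (leOfHom a) hxU'⟩
  obtain ⟨t, ht⟩ := hU.elim_finite_subcover (fun i => (V i : Set X)) (fun i => (V i).isOpen) hsub
  refine ⟨t, ?_⟩
  intro x hx
  obtain ⟨i, hi⟩ := Set.mem_iUnion.1 (ht hx)
  obtain ⟨hit, hxi⟩ := Set.mem_iUnion.1 hi
  exact ⟨V i, g i, (Sieve.mem_ofArrows_iff _ _ _).2 ⟨⟨i, hit⟩, 𝟙 _, (Category.id_comp _).symm⟩, hxi⟩

end Groth.Agent.Lib.Helper2.QcSite
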