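import Groth.Prelude.Def_ModSite
import Groth.Agent.Lib.Helper2.CptD.Proj
import Groth.Agent.Lib.Helper17.FreeOn
import Mathlib

/-!
# Sections of a coproduct of sheaves of modules are locally finite sums
-/

set_option autoImplicit false

universe u

open CategoryTheory CategoryTheory.Limits Opposite

namespace Groth.Agent.Lib.Helper2.QcSite

open Groth.Agent.Lib.Helper2.CptD

section ModuleCat

variable {R : Type u} [Ring R]

lemma mem_iSup_range_of_isColimit_ring {ι : Type u} {Y : ι → ModuleCat.{u} R} (κ : Cofan Y)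
    (hκ : IsColimit κ) (x : κ.pt) : x ∈ ⨆ i, LinearMap.range (κ.inj i).hom := by
  let H : Submodule R κ.pt := ⨆ i, LinearMap.range (κ.inj i).hom
  let π : κ.pt ⟶ ModuleCat.of R (κ.pt ⧸ H) := ModuleCat.ofHom H.mkQ
  have h0 : π = 0 := by
    refine Cofan.IsColimit.hom_ext hκ _ _ (fun i => ?_)
    rw [comp_zero]
    ext y
    change H.mkQ ((κ.inj i).hom y) = 0
    rw [Submodule.mkQ_apply, Submodule.Quotient.mk_eq_zero]
    exact Submodule.mem_iSup_of_mem i ⟨y, rfl⟩
  have h1 : H.mkQ x = 0 := by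
    have := congrArg (fun f => f.hom x) h0
    exact this
  rw [Submodule.mkQ_apply, Submodule.Quotient.mk_eq_zero] at h1
  exact h1

end ModuleCat

variable {C : Type u} [SmallCategory C] {J : GrothendieckTopology C} (O : Sheaf J CommRingCat.{u})

/-- The sections functor `F ↦ F(W)` with values in abelian groups. -/
noncomputable abbrev Γ (W : C) : ModSite.Mod O ⥤ AddCommGrpCat.{u} :=
  SheafOfModules.toSheaf (ModSite.ringSh O) ⋙ (sheafSections J AddCommGrpCat.{u}).obj (op W)

instance (W : C) : (Γ O W).Additive := ⟨fun {_ _ _ _} => rfl⟩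

/-- Restriction of sections. -/
noncomputable def res {V W : C} (g : W ⟶ V) (M : ModSite.Mod O) :
    (Γ O V).obj M ⟶ (Γ O W).obj M :=
  M.val.presheaf.map g.op

lemma res_naturality {V W : C} (g : W ⟶ V) {M N : ModSite.Mod O} (f : M ⟶ N) :
    (Γ O V).map f ≫ res O g N = res O g M ≫ (Γ O W).map f :=
  (((PresheafOfModules.toPresheaf _).map f.val).naturality g.op).symm

lemma res_naturality_apply {V W : C} (g : W ⟶ V) {M N : ModSite.Mod O} (f : M ⟶ N)
    (x : (Γ O V).obj M) :
    (res O g N).hom (((Γ O V).map f).hom x) = ((Γ O W).map f).hom ((res O g M).hom x) :=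
  congrArg (fun φ => φ.hom x) (res_naturality O g f)

lemma res_comp {V W W' : C} (g : W ⟶ V) (k : W' ⟶ W) (M : ModSite.Mod O) :
    res O (k ≫ g) M = res O g M ≫ res O k M := by
  unfold res
  rw [op_comp, Functor.map_comp]
  rfl

lemma res_comp_apply {V W W' : C} (g : W ⟶ V) (k : W' ⟶ W) (M : ModSite.Mod O)
    (x : (Γ O V).obj M) :
    (res O (k ≫ g) M).hom x = (res O k M).hom ((res O g M).hom x) :=
  congrArg (fun φ => φ.hom x) (res_comp O g k M)

/-- Separatedness. -/
lemma eq_of_res_eq {V : C} (M : ModSite.Mod O) (x y : (Γ O V).obj M) {S : Sieve V} (hS : S ∈ J V)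
    (h : ∀ ⦃W : C⦄ (g : W ⟶ V), S g → (res O g M).hom x = (res O g M).hom y) : x = y := by
  have hs := Groth.Agent.Lib.Helper17.FreeOn.isSheaf_types M
  exact (hs.isSeparated _ hS).ext (fun W g hg => h g hg)

section LocFin

variable {ι : Type u} (F : ι → ModSite.Mod O) (c : Cofan F) (hc : IsColimit c)

/-- Element-level monotonicity of fixed points of the finite projectors. -/
lemma fix_mono_apply {W : C} {t t' : Finset ι} (h : t ⊆ t') (x : (Γ O W).obj c.pt)
    (hx : ((Γ O W).map (proj c hc t)).hom x = x) : ((Γ O W).map (proj c hc t')).hom x = x := by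
  have h1 := congrArg (fun f => ((Γ O W).map f).hom x) (proj_comp_proj c hc h)
  simp only [Functor.map_comp] at h1
  change ((Γ O W).map (proj c hc t')).hom (((Γ O W).map (proj c hc t)).hom x) = _ at h1
  rw [hx] at h1
  exact h1

/-- **Local finiteness**: every section of a coproduct of sheaves of modules is, locally, fixed by
a finite projector. -/
theorem exists_cover_fix (V : C) (s : (Γ O V).obj c.pt) :
    ∃ S ∈ J V, ∀ ⦃W : C⦄ (g : W ⟶ V), S g → ∃ t : Finset ι,
      ((Γ O W).map (proj c hc t)).hom ((res O g c.pt).hom s) = (res O g c.pt).hom s := by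
  classical
  let R₀ := (ModSite.ringSh O).obj
  let a := PresheafOfModules.sheafification.{u} (𝟙 R₀)
  let G := SheafOfModules.forget (ModSite.ringSh O) ⋙ PresheafOfModules.restrictScalars (𝟙 R₀)
  let adj : a ⊣ G := PresheafOfModules.sheafificationAdjunction (𝟙 R₀)
  let P : ι → PresheafOfModules.{u} R₀ := fun i => G.obj (F i)
  let ψ : ∐ P ⟶ G.obj c.pt := Sigma.desc (fun i => G.map (c.inj i))
  let ψs : a.obj (∐ P) ⟶ c.pt := (adj.homEquiv _ _).symm ψ
  let φ : c.pt ⟶ a.obj (∐ P) :=
    Cofan.IsColimit.desc hc (fun i => inv (adj.counit.app (F i)) ≫ a.map (Sigma.ι P i))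
  have hφ : ∀ i, c.inj i ≫ φ = inv (adj.counit.app (F i)) ≫ a.map (Sigma.ι P i) := fun i =>
    Cofan.IsColimit.fac hc _ i
  have hφψ : φ ≫ ψs = 𝟙 _ := by
    refine Cofan.IsColimit.hom_ext hc _ _ (fun i => ?_)
    rw [reassoc_of% (hφ i), Category.comp_id]
    have h1 : a.map (Sigma.ι P i) ≫ ψs = (adj.homEquiv _ _).symm (Sigma.ι P i ≫ ψ) :=
      (Adjunction.homEquiv_naturality_left_symm adj (Sigma.ι P i) ψ).symm
    have h2 : Sigma.ι P i ≫ ψ = G.map (c.inj i) := Sigma.ι_desc _ _
    rw [h1, h2, Adjunction.homEquiv_counit, adj.counit_naturality, IsIso.inv_hom_id_assoc]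
  have hunit : adj.unit.app (∐ P) ≫ G.map ψs = ψ := by
    have := adj.homEquiv_unit (f := ψs)
    rw [← this]
    exact Equiv.apply_symm_apply _ _
  -- the section `y` of the sheafification
  let y : (Γ O V).obj (a.obj (∐ P)) := ((Γ O V).map φ).hom s
  have hy : ((Γ O V).map ψs).hom y = s := by
    have := congrArg (fun f => ((Γ O V).map f).hom s) hφψ
    simp only [Functor.map_comp, CategoryTheory.Functor.map_id] at this
    exact this
  refine ⟨_, Presheaf.imageSieve_mem J (toSheafify J (∐ P).presheaf) y, ?_⟩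
  intro W g hg
  obtain ⟨σ, hσ⟩ := hg
  -- `σ` is a section of the presheaf coproduct
  have hσ' : (res O g c.pt).hom s = ((ψ.app (op W)).hom σ : c.pt.val.obj (op W)) := by
    rw [← hy, res_naturality_apply]
    have h3 : (res O g (a.obj (∐ P))).hom y = (toSheafify J (∐ P).presheaf).app (op W) σ :=
      hσ.symm
    rw [h3]
    have h4 := congrArg (fun f => (f.app (op W)).hom σ) hunit
    exact h4
  -- evaluation at `W` preserves the coproduct
  let E := PresheafOfModules.evaluation.{u} R₀ (op W)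
  have hE : IsColimit (Cofan.mk (E.obj (∐ P)) (fun i => E.map (Sigma.ι P i))) :=
    isColimitCofanMkObjOfIsColimit E P _ (coproductIsCoproduct P)
  have hmem := mem_iSup_range_of_isColimit_ring _ hE σ
  obtain ⟨θ, hθ1, hθ0, hθadd⟩ : ∃ θ : (∐ P).obj (op W) → (Γ O W).obj c.pt,
      (∀ x, θ x = ((ψ.app (op W)).hom x : c.pt.val.obj (op W))) ∧ θ 0 = 0 ∧
        (∀ x x', θ (x + x') = θ x + θ x') :=
    ⟨fun x => ((ψ.app (op W)).hom x : c.pt.val.obj (op W)), fun _ => rfl,
      map_zero (ψ.app (op W)).hom, fun x x' => map_add (ψ.app (op W)).hom x x'⟩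
  have hσ'' : (res O g c.pt).hom s = θ σ := hσ'.trans (hθ1 σ).symm
  rw [hσ'']
  have key : ∀ σ' : (∐ P).obj (op W), σ' ∈ (⨆ i, LinearMap.range
      ((Cofan.mk (E.obj (∐ P)) (fun i => E.map (Sigma.ι P i))).inj i).hom) →
      ∃ t : Finset ι, ((Γ O W).map (proj c hc t)).hom (θ σ') = θ σ' := by
    intro σ' hσ'
    refine Submodule.iSup_induction (p := fun i => LinearMap.range
      ((Cofan.mk (E.obj (∐ P)) (fun i => E.map (Sigma.ι P i))).inj i).hom)
      (motive := fun σ' : (∐ P).obj (op W) => ∃ t : Finset ι,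
        ((Γ O W).map (proj c hc t)).hom (θ σ') = θ σ') hσ' ?_ ?_ ?_
    · rintro i σ₁ ⟨z, rfl⟩
      refine ⟨{i}, ?_⟩
      have h5 : Sigma.ι P i ≫ ψ = G.map (c.inj i) := Sigma.ι_desc _ _
      have h6 : θ (((Cofan.mk (E.obj (∐ P)) (fun i => E.map (Sigma.ι P i))).inj i).hom z) =
          ((Γ O W).map (c.inj i)).hom z :=
        (hθ1 _).trans (congrArg (fun f => (f.app (op W)).hom z) h5)
      rw [h6]
      have h7 := congrArg (fun f => ((Γ O W).map f).hom z)
        (inj_proj_of_mem c hc (Finset.mem_singleton_self i))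
      simp only [Functor.map_comp] at h7
      exact h7
    · refine ⟨∅, ?_⟩
      exact (congrArg (fun w => ((Γ O W).map (proj c hc ∅)).hom w) hθ0).trans
        ((map_zero _).trans hθ0.symm)
    · rintro x x' ⟨t, ht⟩ ⟨t', ht'⟩
      refine ⟨t ∪ t', ?_⟩
      have hadd : θ (x + x') = θ x + θ x' := hθadd x x'
      rw [hadd, map_add, fix_mono_apply O F c hc Finset.subset_union_left _ ht,
        fix_mono_apply O F c hc Finset.subset_union_right _ ht']
  exact key σ hmem

end LocFin

end Groth.Agent.Lib.Helper2.QcSite
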