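import Groth.Agent.Lib.Helper2.QcSite.Site
import Groth.Agent.Lib.Helper2.QcSite.LocFin
import Groth.Agent.Lib.Helper2.CptD.AbColim

/-!
# Sections over a quasi-compact object commute with coproducts of sheaves of modules
-/

set_option autoImplicit false

universe u

open CategoryTheory CategoryTheory.Limits Opposite

namespace Groth.Agent.Lib.Helper2.QcSite

open Groth.Agent.Lib.Helper2.CptD

variable {C : Type u} [SmallCategory C] {J : GrothendieckTopology C} (O : Sheaf J CommRingCat.{u})

/-- Over a quasi-compact object every section of a coproduct is fixed by a finite projector. -/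
theorem exists_fix_of_isQcObject {W : C} (hW : CohCx.IsQcObject (hSh J W)) {ι : Type u}
    (F : ι → ModSite.Mod O) (c : Cofan F) (hc : IsColimit c) (s : (Γ O W).obj c.pt) :
    ∃ t : Finset ι, ((Γ O W).map (proj c hc t)).hom s = s := by
  classical
  obtain ⟨S, hS, hfix⟩ := exists_cover_fix O F c hc W s
  -- the family of all arrows along which `s` is fixed by a finite projector
  let I : Type u := Σ (t : Finset ι) (V : C), {g : V ⟶ W //
    ((Γ O V).map (proj c hc t)).hom ((res O g c.pt).hom s) = (res O g c.pt).hom s}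
  let VV : I → C := fun i => i.2.1
  let gg : ∀ i : I, VV i ⟶ W := fun i => i.2.2.1
  have hcov : Sieve.ofArrows VV gg ∈ J W := by
    refine J.superset_covering ?_ hS
    intro V g hg
    obtain ⟨t, ht⟩ := hfix g hg
    exact (Sieve.mem_ofArrows_iff _ _ _).2 ⟨⟨t, V, g, ht⟩, 𝟙 _, (Category.id_comp _).symm⟩
  obtain ⟨T, hT⟩ := exists_finset_cover hW VV gg hcov
  let tt : Finset ι := T.sup (fun i => i.1)
  refine ⟨tt, ?_⟩
  refine eq_of_res_eq O c.pt _ _ hT ?_
  intro V g hg
  obtain ⟨i, a, ha⟩ := (Sieve.mem_ofArrows_iff _ _ _).1 hg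
  have hi : i.1.1 ⊆ tt := Finset.le_sup (f := fun i : I => i.1) i.2
  have h1 := fix_mono_apply O F c hc hi _ i.1.2.2.2
  rw [res_naturality_apply, ha, res_comp_apply]
  change ((Γ O V).map (proj c hc tt)).hom ((res O a c.pt).hom ((res O (gg i.1) c.pt).hom s)) =
    (res O a c.pt).hom ((res O (gg i.1) c.pt).hom s)
  rw [← res_naturality_apply]
  exact congrArg (fun w => (res O a c.pt).hom w) h1

/-- **S9102-type statement**: sections over a quasi-compact object commute with coproducts. -/
theorem preservesColimitsOfShape_Γ {W : C} (hW : CohCx.IsQcObject (hSh J W)) (ι : Type u) :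
    PreservesColimitsOfShape (Discrete ι) (Γ O W) :=
  preservesColimitsOfShape_discrete_of_fix (Γ O W) ι
    (fun F c hc s => exists_fix_of_isQcObject O hW F c hc s)

/-- Morphisms from `j_{U!} O_U`, `U` quasi-compact, to a coproduct are fixed by a finite
projector. -/
theorem exists_fix_freeOn {U : C} (hU : CohCx.IsQcObject (hSh J U)) {ι : Type u}
    (F : ι → ModSite.Mod O) (c : Cofan F) (hc : IsColimit c) (g : ModSite.freeOn O U ⟶ c.pt) :
    ∃ t : Finset ι, g ≫ proj c hc t = g := by
  let s : (Γ O U).obj c.pt := Groth.Agent.Lib.Helper17.FreeOn.freeOnHomEquiv c.pt U g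
  obtain ⟨t, ht⟩ := exists_fix_of_isQcObject O hU F c hc s
  refine ⟨t, ?_⟩
  apply (Groth.Agent.Lib.Helper17.FreeOn.freeOnHomEquiv c.pt U).injective
  rw [Groth.Agent.Lib.Helper17.FreeOn.freeOnHomEquiv_comp]
  exact ht

/-- **S9103-type statement**: `Hom(j_{U!} O_U, -)` commutes with coproducts for `U`
quasi-compact. -/
theorem preservesColimitsOfShape_coyoneda_freeOn {U : C} (hU : CohCx.IsQcObject (hSh J U))
    (ι : Type u) :
    PreservesColimitsOfShape (Discrete ι)
      (preadditiveCoyoneda.obj (op (ModSite.freeOn O U))) :=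
  preservesColimitsOfShape_discrete_of_fix _ ι
    (fun F c hc s => exists_fix_freeOn O hU F c hc s)

end Groth.Agent.Lib.Helper2.QcSite
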