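import Groth.Prelude.Def_CohCx
import Mathlib.CategoryTheory.Sites.LocallySurjective
import Mathlib.CategoryTheory.Sites.LocallyInjective
import Mathlib.CategoryTheory.Sites.LocallyBijective

/-!
# Quasi-compact objects of a site: site-level reformulation

If the sheafified representable `h_W^#` is a quasi-compact object of the topos, then every
covering family of `W` indexed by a small type has a finite covering subfamily.
-/

set_option autoImplicit false

universe u

open CategoryTheory CategoryTheory.Limits Opposite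

namespace Groth.Agent.Lib.Helper2.QcSite

variable {C : Type u} [SmallCategory C] {J : GrothendieckTopology C}

/-- The sheafified representable sheaf of sets. -/
noncomputable abbrev hSh (J : GrothendieckTopology C) (W : C) : Sheaf J (Type u) :=
  (presheafToSheaf J (Type u)).obj (yoneda.obj W)

/-- The section of `h_W^#` attached to a morphism. -/
noncomputable def cls {V W : C} (g : V ⟶ W) : (hSh J W).obj.obj (op V) :=
  (toSheafify J (yoneda.obj W)).app (op V) g

lemma cls_map {V' V W : C} (k : V' ⟶ V) (g : V ⟶ W) :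
    (hSh J W).obj.map k.op (cls (J := J) g) = cls (k ≫ g) := by
  have := NatTrans.naturality_apply (toSheafify J (yoneda.obj W)) k.op g
  exact this.symm

/-- The map of sheafified representables induced by a morphism. -/
noncomputable def hMap {V W : C} (g : V ⟶ W) : hSh J V ⟶ hSh J W :=
  (presheafToSheaf J (Type u)).map (yoneda.map g)

lemma hMap_cls {U V W : C} (g : V ⟶ W) (n : U ⟶ V) :
    (hMap (J := J) g).hom.app (op U) (cls n) = cls (n ≫ g) := by
  have h := toSheafify_naturality J (yoneda.map g)
  have := congrArg (fun α => (α.app (op U)) n) h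
  exact this.symm

lemma exists_cover_cls {U W : C} (x : (hSh J W).obj.obj (op U)) :
    ∃ S ∈ J U, ∀ ⦃V : C⦄ (m : V ⟶ U), S m →
      ∃ n : V ⟶ W, (hSh J W).obj.map m.op x = cls n := by
  refine ⟨_, Presheaf.imageSieve_mem J (toSheafify J (yoneda.obj W)) x, ?_⟩
  intro V m hm
  obtain ⟨n, hn⟩ := hm
  exact ⟨n, hn.symm⟩

lemma exists_cover_of_cls_eq {V W : C} {n n' : V ⟶ W} (h : cls (J := J) n = cls n') :
    ∃ S ∈ J V, ∀ ⦃V' : C⦄ (q : V' ⟶ V), S q → q ≫ n = q ≫ n' := by
  refine ⟨_, Presheaf.equalizerSieve_mem J (toSheafify J (yoneda.obj W)) n n' h, ?_⟩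
  intro V' q hq
  exact hq

section JS

variable {K : Sheaf J (Type u)} {I : Type u} {L : I → Sheaf J (Type u)} (f : ∀ i, L i ⟶ K)

/-- The sieve of arrows along which a section lifts to some member of the family. -/
def jsSieve {U : C} (s : K.obj.obj (op U)) : Sieve U where
  arrows V g := ∃ (i : I) (x : (L i).obj.obj (op V)), (f i).hom.app (op V) x = K.obj.map g.op s
  downward_closed := by
    rintro V V' g ⟨i, x, hx⟩ k
    refine ⟨i, (L i).obj.map k.op x, ?_⟩
    have := NatTrans.naturality_apply (f i).hom k.op x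
    rw [this, hx, op_comp, Functor.map_comp_apply]

lemma jointlySurjective_iff :
    CohCx.JointlySurjective f ↔ ∀ (U : C) (s : K.obj.obj (op U)), jsSieve f s ∈ J U := by
  constructor
  · intro h U s
    obtain ⟨S, hS, hS'⟩ := h U s
    exact J.superset_covering (fun V g hg => hS' V g hg) hS
  · intro h U s
    exact ⟨jsSieve f s, h U s, fun V g hg => hg⟩

end JS

/-- **Site-level quasi-compactness**: a covering family of a quasi-compact object has a finite
covering subfamily. -/
theorem exists_finset_cover {W : C} (hW : CohCx.IsQcObject (hSh J W)) {I : Type u}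
    (V : I → C) (g : ∀ i, V i ⟶ W) (hcov : Sieve.ofArrows V g ∈ J W) :
    ∃ T : Finset I, Sieve.ofArrows (fun i : T => V i.1) (fun i : T => g i.1) ∈ J W := by
  have hjs : CohCx.JointlySurjective (fun i => hMap (J := J) (g i)) := by
    rw [jointlySurjective_iff]
    intro U x
    obtain ⟨S, hS, h⟩ := exists_cover_cls x
    refine J.transitive hS _ (fun V' m hm => ?_)
    obtain ⟨n, hn⟩ := h m hm
    refine J.superset_covering ?_ (J.pullback_stable n hcov)
    intro V'' k hk
    obtain ⟨i, a, ha⟩ := (Sieve.mem_ofArrows_iff _ _ _).1 hk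
    refine ⟨i, cls a, ?_⟩
    rw [hMap_cls, ← ha, ← cls_map, ← hn, op_comp, Functor.map_comp_apply]
  obtain ⟨T, hT⟩ := hW I _ _ hjs
  refine ⟨T, ?_⟩
  rw [jointlySurjective_iff] at hT
  have h0 := hT W (cls (𝟙 W))
  refine J.transitive h0 _ (fun U k hk => ?_)
  obtain ⟨i, y, hy⟩ := hk
  obtain ⟨S, hS, h⟩ := exists_cover_cls y
  refine J.transitive hS _ (fun U' m hm => ?_)
  obtain ⟨n, hn⟩ := h m hm
  have h1 : cls (J := J) (n ≫ g i.1) = cls (m ≫ k) := by
    rw [← hMap_cls, ← hn]
    have := NatTrans.naturality_apply (hMap (J := J) (g i.1)).hom m.op y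
    rw [this, hy, cls_map, cls_map, Category.comp_id]
  obtain ⟨S', hS', h'⟩ := exists_cover_of_cls_eq h1
  refine J.superset_covering ?_ hS'
  intro U'' q hq
  have h2 := h' q hq
  change Sieve.ofArrows (fun i : T => V i.1) (fun i : T => g i.1) ((q ≫ m) ≫ k)
  rw [Category.assoc, ← h2]
  exact (Sieve.mem_ofArrows_iff _ _ _).2 ⟨i, q ≫ n, by rw [Category.assoc]⟩

end Groth.Agent.Lib.Helper2.QcSite
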