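import Groth.Agent.Lib.Helper2.QcSite.Sections
import Groth.Agent.Lib.Helper17.ModSiteExact

/-!
# Modules of "type A" on a ringed site: cokernels of maps between finite sums of `j_{U!} O_U`
-/

set_option autoImplicit false

universe u

open CategoryTheory CategoryTheory.Limits Opposite

namespace Groth.Agent.Lib.Helper2.QcSite

open Groth.Agent.Lib.Helper17.FreeOn

section Abelian

variable {A : Type*} [Category A] [Abelian A]

/-- binary biproduct of two coproducts as a coproduct over the sum type -/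
noncomputable def sumIso {ι₁ ι₂ : Type*} (f₁ : ι₁ → A) (f₂ : ι₂ → A) [HasCoproduct f₁]
    [HasCoproduct f₂] [HasCoproduct (Sum.elim f₁ f₂)] : (∐ f₁) ⊞ (∐ f₂) ≅ ∐ (Sum.elim f₁ f₂) :=
  (Cofan.combPairIsColimit (coproductIsCoproduct f₁) (coproductIsCoproduct f₂)
    (BinaryBiproduct.isColimit (∐ f₁) (∐ f₂))).coconePointUniqueUpToIso
      (coproductIsCoproduct (Sum.elim f₁ f₂))

/-- `coker (R → Q₀ → coker ψ) ≅ coker (Q₁ ⊞ R → Q₀)`. -/
noncomputable def cokernelCompCokernelIso {Q₁ Q₀ R : A} (ψ : Q₁ ⟶ Q₀) (β : R ⟶ Q₀) :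
    cokernel (β ≫ cokernel.π ψ) ≅ cokernel (biprod.desc ψ β) where
  hom := cokernel.desc _ (cokernel.desc ψ (cokernel.π (biprod.desc ψ β)) (by
      have h := biprod.inl ≫= cokernel.condition (biprod.desc ψ β)
      rwa [biprod.inl_desc_assoc, comp_zero] at h)) (by
      rw [Category.assoc, cokernel.π_desc]
      have h := biprod.inr ≫= cokernel.condition (biprod.desc ψ β)
      rwa [biprod.inr_desc_assoc, comp_zero] at h)
  inv := cokernel.desc _ (cokernel.π ψ ≫ cokernel.π (β ≫ cokernel.π ψ)) (by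
      apply biprod.hom_ext'
      · simp
      · rw [comp_zero, biprod.inr_desc_assoc, ← Category.assoc, cokernel.condition])
  hom_inv_id := by
    apply coequalizer.hom_ext
    rw [cokernel.π_desc_assoc]
    apply coequalizer.hom_ext
    rw [cokernel.π_desc_assoc, cokernel.π_desc]
    simp
  inv_hom_id := by
    apply coequalizer.hom_ext
    simp

end Abelian

variable {C : Type u} [SmallCategory C] {J : GrothendieckTopology C} (O : Sheaf J CommRingCat.{u})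

section JMap

/-- The map `j_{W!} O_W ⟶ j_{U!} O_U` induced by `w : W ⟶ U`. -/
noncomputable def jMap {W U : C} (w : W ⟶ U) : ModSite.freeOn O W ⟶ ModSite.freeOn O U :=
  (freeOnHomEquiv (ModSite.freeOn O U) W).symm
    ((res O w (ModSite.freeOn O U)).hom (freeOnHomEquiv (ModSite.freeOn O U) U (𝟙 _)))

lemma freeOnHomEquiv_jMap_comp {W U : C} (w : W ⟶ U) {H : ModSite.Mod O}
    (a : ModSite.freeOn O U ⟶ H) :
    freeOnHomEquiv H W (jMap O w ≫ a) = (res O w H).hom (freeOnHomEquiv H U a) := by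
  rw [freeOnHomEquiv_comp]
  unfold jMap
  rw [Equiv.apply_symm_apply]
  have h1 := res_naturality_apply O w a (freeOnHomEquiv (ModSite.freeOn O U) U (𝟙 _))
  have h2 := freeOnHomEquiv_comp U (𝟙 (ModSite.freeOn O U)) a
  rw [Category.id_comp] at h2
  rw [h2]
  exact h1.symm

/-- A covering family induces a jointly epimorphic family of maps `j_{W_k!} ⟶ j_{U!}`. -/
lemma eq_of_jMap_comp_eq {κ : Type*} {U : C} (W : κ → C) (w : ∀ k, W k ⟶ U)
    (hcov : Sieve.ofArrows W w ∈ J U) {H : ModSite.Mod O} (a b : ModSite.freeOn O U ⟶ H)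
    (h : ∀ k, jMap O (w k) ≫ a = jMap O (w k) ≫ b) : a = b := by
  apply (freeOnHomEquiv H U).injective
  refine eq_of_res_eq O H _ _ hcov ?_
  intro V g hg
  obtain ⟨k, c, rfl⟩ := (Sieve.mem_ofArrows_iff _ _ _).1 hg
  have h1 : (res O (w k) H).hom (freeOnHomEquiv H U a) =
      (res O (w k) H).hom (freeOnHomEquiv H U b) := by
    rw [← freeOnHomEquiv_jMap_comp, ← freeOnHomEquiv_jMap_comp, h k]
  rw [res_comp_apply, res_comp_apply, h1]

end JMap

section LocalLift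

variable (B : Set C)
  (hB₁ : ∀ X : C, ∃ (κ : Type u) (Y : κ → C) (g : ∀ k, Y k ⟶ X),
    Sieve.ofArrows Y g ∈ J X ∧ ∀ k, Y k ∈ B)
  (hB₂ : ∀ U ∈ B, CohCx.IsQcObject (hSh J U))

include hB₁ hB₂ in
/-- Local lifting of a section along an epimorphism, over finitely many members of `B`. -/
lemma exists_local_lift_freeOn {U : C} (hU : U ∈ B) {G H : ModSite.Mod O} (π : G ⟶ H) [Epi π]
    (s : ModSite.freeOn O U ⟶ H) :
    ∃ (κ : Type u) (_ : Finite κ) (W : κ → C) (w : ∀ k, W k ⟶ U), (∀ k, W k ∈ B) ∧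
      Sieve.ofArrows W w ∈ J U ∧
      ∀ k, ∃ t : ModSite.freeOn O (W k) ⟶ G, t ≫ π = jMap O (w k) ≫ s := by
  classical
  haveI := Groth.Agent.Lib.Helper17.ModSiteExact.toSheaf_preservesFiniteColimits (ModSite.ringSh O)
  let π' := (SheafOfModules.toSheaf (ModSite.ringSh O)).map π
  haveI : Epi π' := inferInstance
  haveI : Sheaf.IsLocallySurjective π' :=
    (Sheaf.isLocallySurjective_iff_epi' AddCommGrpCat.{u} π').2 inferInstance
  let x : (Γ O U).obj H := freeOnHomEquiv H U s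
  -- the sieve of arrows along which `x` lifts
  have hS : Presheaf.imageSieve π'.hom x ∈ J U := Presheaf.imageSieve_mem J π'.hom x
  -- lifting along an arrow of the sieve
  have hlift : ∀ ⦃V : C⦄ (g : V ⟶ U), Presheaf.imageSieve π'.hom x g →
      ∃ t : ModSite.freeOn O V ⟶ G, t ≫ π = jMap O g ≫ s := by
    intro V g hg
    obtain ⟨y, hy⟩ := hg
    refine ⟨(freeOnHomEquiv G V).symm y, ?_⟩
    apply (freeOnHomEquiv H V).injective
    rw [freeOnHomEquiv_comp, Equiv.apply_symm_apply, freeOnHomEquiv_jMap_comp]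
    exact hy
  -- refine by members of `B`
  choose κ₀ Y₀ g₀ hcov₀ hY₀ using hB₁
  let I : Type u := Σ (V : C) (g : {g : V ⟶ U // Presheaf.imageSieve π'.hom x g}), κ₀ V
  let VV : I → C := fun i => Y₀ i.1 i.2.2
  let gg : ∀ i : I, VV i ⟶ U := fun i => g₀ i.1 i.2.2 ≫ i.2.1.1
  have hcov : Sieve.ofArrows VV gg ∈ J U := by
    refine J.transitive hS _ (fun V g hg => ?_)
    refine J.superset_covering ?_ (hcov₀ V)
    intro V' a ha
    obtain ⟨k, c, rfl⟩ := (Sieve.mem_ofArrows_iff _ _ _).1 ha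
    exact (Sieve.mem_ofArrows_iff _ _ _).2 ⟨⟨V, ⟨g, hg⟩, k⟩, c, by simp [gg]⟩
  obtain ⟨T, hT⟩ := exists_finset_cover (hB₂ U hU) VV gg hcov
  refine ⟨T, inferInstance, fun i => VV i.1, fun i => gg i.1, fun i => hY₀ _ _, hT, fun i => ?_⟩
  exact hlift _ ((Presheaf.imageSieve π'.hom x).downward_closed i.1.2.1.2 _)

/-- Finite coproducts of modules `j_{U!} O_U` with `U ∈ B`. -/
def FinFree (P : ModSite.Mod O) : Prop :=
  ∃ (ι : Type u) (_ : Finite ι) (U : ι → C), (∀ i, U i ∈ B) ∧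
    Nonempty (P ≅ ∐ fun i => ModSite.freeOn O (U i))

variable {O B}

lemma FinFree.of_iso {P P' : ModSite.Mod O} (e : P ≅ P') (h : FinFree O B P) : FinFree O B P' := by
  obtain ⟨ι, hι, U, hU, ⟨f⟩⟩ := h
  exact ⟨ι, hι, U, hU, ⟨e.symm ≪≫ f⟩⟩

lemma FinFree.biprod {P Q : ModSite.Mod O} (hP : FinFree O B P) (hQ : FinFree O B Q) :
    FinFree O B (P ⊞ Q) := by
  obtain ⟨ι₁, hι₁, U₁, hU₁, ⟨e₁⟩⟩ := hP
  obtain ⟨ι₂, hι₂, U₂, hU₂, ⟨e₂⟩⟩ := hQ
  refine ⟨ι₁ ⊕ ι₂, inferInstance, Sum.elim U₁ U₂, ?_, ⟨biprod.mapIso e₁ e₂ ≪≫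
    sumIso _ _ ≪≫ Sigma.mapIso (fun j => ?_)⟩⟩
  · rintro (i | i)
    · exact hU₁ i
    · exact hU₂ i
  · cases j
    · exact Iso.refl _
    · exact Iso.refl _

/-- The `Fin`-indexed form. -/
lemma FinFree.exists_fin {P : ModSite.Mod O} (h : FinFree O B P) :
    ∃ (n : ℕ) (U : Fin n → C), (∀ i, U i ∈ B) ∧
      Nonempty (P ≅ ∐ fun i => ModSite.freeOn O (U i)) := by
  obtain ⟨ι, hι, U, hU, ⟨e⟩⟩ := h
  obtain ⟨n, ⟨ε⟩⟩ := Finite.exists_equiv_fin ι
  refine ⟨n, fun j => U (ε.symm j), fun j => hU _, ⟨e ≪≫ Sigma.whiskerEquiv ε (fun i => ?_)⟩⟩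
  exact eqToIso (by simp)

lemma FinFree.of_fin {P : ModSite.Mod O} (n : ℕ) (U : Fin n → C) (hU : ∀ i, U i ∈ B)
    (e : P ≅ ∐ fun i => ModSite.freeOn O (U i)) : FinFree O B P := by
  refine ⟨ULift.{u} (Fin n), inferInstance, fun i => U i.down, fun i => hU _,
    ⟨e ≪≫ Sigma.whiskerEquiv (f := fun i : Fin n => ModSite.freeOn O (U i))
      (g := fun i : ULift.{u} (Fin n) => ModSite.freeOn O (U i.down)) Equiv.ulift.symm
      (fun i => Iso.refl _)⟩⟩

variable (O B)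

set_option maxHeartbeats 1600000 in
include hB₁ hB₂ in
/-- Local lifting along an epimorphism from a finite free module. -/
lemma exists_local_lift {P : ModSite.Mod O} (hP : FinFree O B P) {G H : ModSite.Mod O}
    (π : G ⟶ H) [Epi π] (s : P ⟶ H) :
    ∃ (R : ModSite.Mod O) (γ : R ⟶ P) (β : R ⟶ G), FinFree O B R ∧ Epi γ ∧
      β ≫ π = γ ≫ s := by
  classical
  obtain ⟨ι, hι, U, hU, ⟨e⟩⟩ := hP
  have h1 := fun i => exists_local_lift_freeOn O B hB₁ hB₂ (hU i) π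
    (Sigma.ι (fun i => ModSite.freeOn O (U i)) i ≫ e.inv ≫ s)
  choose κ hκ W w hW hcov t ht using h1
  let fam : (Σ i, κ i) → ModSite.Mod O := fun p => ModSite.freeOn O (W p.1 p.2)
  let γ : ∐ fam ⟶ P := Sigma.desc (fun p => jMap O (w p.1 p.2) ≫
    Sigma.ι (fun i => ModSite.freeOn O (U i)) p.1 ≫ e.inv)
  let β : ∐ fam ⟶ G := Sigma.desc (fun p => t p.1 p.2)
  have hγ : Epi γ := by
    constructor
    intro H' a b hab
    have key : ∀ i, Sigma.ι (fun i => ModSite.freeOn O (U i)) i ≫ e.inv ≫ a =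
        Sigma.ι (fun i => ModSite.freeOn O (U i)) i ≫ e.inv ≫ b := by
      intro i
      have h5 : ∀ k, jMap O (w i k) ≫ (Sigma.ι (fun i => ModSite.freeOn O (U i)) i ≫ e.inv ≫ a) =
          jMap O (w i k) ≫ (Sigma.ι (fun i => ModSite.freeOn O (U i)) i ≫ e.inv ≫ b) := by
        intro k
        have h3 := (Sigma.ι fam ⟨i, k⟩) ≫= hab
        have h4 : Sigma.ι fam ⟨i, k⟩ ≫ γ = jMap O (w i k) ≫
            Sigma.ι (fun i => ModSite.freeOn O (U i)) i ≫ e.inv := Sigma.ι_desc _ _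
        rw [← Category.assoc, ← Category.assoc, h4] at h3
        simpa only [Category.assoc] using h3
      exact eq_of_jMap_comp_eq O (W i) (w i) (hcov i)
        (Sigma.ι (fun i => ModSite.freeOn O (U i)) i ≫ e.inv ≫ a)
        (Sigma.ι (fun i => ModSite.freeOn O (U i)) i ≫ e.inv ≫ b) h5
    rw [← cancel_epi e.inv]
    exact Sigma.hom_ext _ _ key
  haveI := hι
  haveI := hκ
  have hfin : Finite (Σ i, κ i) := inferInstance
  have hR : FinFree O B (∐ fam) := ⟨Σ i, κ i, hfin, fun p => W p.1 p.2, fun p => hW _ _, ⟨Iso.refl _⟩⟩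
  have hfinal : β ≫ π = γ ≫ s := by
    apply Sigma.hom_ext
    intro p
    have h4 : Sigma.ι fam p ≫ γ = jMap O (w p.1 p.2) ≫
        Sigma.ι (fun i => ModSite.freeOn O (U i)) p.1 ≫ e.inv := Sigma.ι_desc _ _
    have h5 : Sigma.ι fam p ≫ β = t p.1 p.2 := Sigma.ι_desc _ _
    rw [← Category.assoc, ← Category.assoc, h4, h5, ht p.1 p.2]
    simp only [Category.assoc]
  exact ⟨∐ fam, γ, β, hR, hγ, hfinal⟩

/-- Modules of type A. -/
def TypeA (F : ModSite.Mod O) : Prop :=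
  ∃ (P₁ P₀ : ModSite.Mod O) (ψ : P₁ ⟶ P₀), FinFree O B P₁ ∧ FinFree O B P₀ ∧
    Nonempty (F ≅ cokernel ψ)

/-- The form of the statements. -/
def TypeA' (F : ModSite.Mod O) : Prop :=
  ∃ (m' n' : ℕ) (V' : Fin m' → C) (U' : Fin n' → C)
    (ψ : (∐ fun j => ModSite.freeOn O (V' j)) ⟶ ∐ fun i => ModSite.freeOn O (U' i)),
    (∀ j, V' j ∈ B) ∧ (∀ i, U' i ∈ B) ∧ Nonempty (F ≅ cokernel ψ)

lemma typeA_iff (F : ModSite.Mod O) : TypeA O B F ↔ TypeA' O B F := by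
  constructor
  · rintro ⟨P₁, P₀, ψ, h₁, h₀, ⟨e⟩⟩
    obtain ⟨m, V, hV, ⟨e₁⟩⟩ := h₁.exists_fin
    obtain ⟨n, U, hU, ⟨e₀⟩⟩ := h₀.exists_fin
    refine ⟨m, n, V, U, e₁.inv ≫ ψ ≫ e₀.hom, hV, hU, ⟨e ≪≫ cokernel.mapIso _ _ e₁ e₀ ?_⟩⟩
    simp
  · rintro ⟨m, n, V, U, ψ, hV, hU, ⟨e⟩⟩
    exact ⟨_, _, ψ, FinFree.of_fin m V hV (Iso.refl _), FinFree.of_fin n U hU (Iso.refl _), ⟨e⟩⟩

include hB₁ hB₂ in
/-- **S9115-type statement**: type A is closed under cokernels. -/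
theorem typeA_cokernel {F G : ModSite.Mod O} (α : F ⟶ G) (hF : TypeA O B F) (hG : TypeA O B G) :
    TypeA O B (cokernel α) := by
  obtain ⟨P₁, P₀, ψF, hP₁, hP₀, ⟨eF⟩⟩ := hF
  obtain ⟨Q₁, Q₀, ψG, hQ₁, hQ₀, ⟨eG⟩⟩ := hG
  let πF : P₀ ⟶ F := cokernel.π ψF ≫ eF.inv
  haveI : Epi πF := epi_comp _ _
  obtain ⟨R, γ, β, hR, hγ, hβ⟩ := exists_local_lift O B hB₁ hB₂ hP₀ (cokernel.π ψG)
    (πF ≫ α ≫ eG.hom)
  haveI := hγ
  haveI : Epi (γ ≫ πF) := epi_comp _ _
  refine ⟨Q₁ ⊞ R, Q₀, biprod.desc ψG β, hQ₁.biprod hR, hQ₀, ⟨?_⟩⟩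
  refine (cokernelCompIsIso α eG.hom).symm ≪≫ (cokernelEpiComp (γ ≫ πF) (α ≫ eG.hom)).symm ≪≫
    ?_ ≪≫ cokernelCompCokernelIso ψG β
  refine cokernel.mapIso _ _ (Iso.refl _) (Iso.refl _) ?_
  simp only [Iso.refl_hom, Category.comp_id, Category.id_comp, Category.assoc]
  rw [hβ]

end LocalLift

end Groth.Agent.Lib.Helper2.QcSite
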