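import Groth.Agent.Lib.Helper2.QcSite.Sections
import Groth.Agent.Lib.Helper2.CptD.CompactIff
import Groth.Agent.Lib.Helper2.CptD.Mod
import Groth.Agent.Lib.Helper17.ModSiteExact
import Groth.Agent.S0484
import Groth.Prelude.Def_CohSite

/-!
# Weakly contractible quasi-compact objects give compact projective generators
-/

set_option autoImplicit false

universe u

open CategoryTheory CategoryTheory.Limits Opposite

namespace Groth.Agent.Lib.Helper2.QcSite

open Groth.Agent.Lib.Helper2.CptD

variable {C : Type u} [SmallCategory C] {J : GrothendieckTopology C} (O : Sheaf J CommRingCat.{u})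

/-- Sections over a weakly contractible object send epimorphisms of modules to surjections. -/
lemma surjective_of_epi_of_isWeaklyContractible {U : C} (hwc : CohSite.IsWeaklyContractible J U)
    {M N : ModSite.Mod O} (φ : M ⟶ N) [Epi φ] :
    Function.Surjective ((Γ O U).map φ).hom := by
  haveI := Groth.Agent.Lib.Helper17.ModSiteExact.toSheaf_preservesFiniteColimits (ModSite.ringSh O)
  let φ' := (SheafOfModules.toSheaf (ModSite.ringSh O)).map φ
  haveI : Epi φ' := inferInstance
  haveI : Sheaf.IsLocallySurjective φ' := (Sheaf.isLocallySurjective_iff_epi' AddCommGrpCat.{u} φ').2 inferInstance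
  let φ'' := (sheafCompose J (forget AddCommGrpCat.{u})).map φ'
  haveI : Sheaf.IsLocallySurjective φ'' := inferInstance
  haveI : Epi φ'' := inferInstance
  exact hwc _ _ φ'' inferInstance

/-- `j_{U!} O_U` is projective for `U` weakly contractible. -/
lemma projective_freeOn {U : C} (hwc : CohSite.IsWeaklyContractible J U) :
    Projective (ModSite.freeOn O U) := by
  constructor
  intro E X f e he
  obtain ⟨y, hy⟩ := surjective_of_epi_of_isWeaklyContractible O hwc e
    (Groth.Agent.Lib.Helper17.FreeOn.freeOnHomEquiv X U f)
  refine ⟨(Groth.Agent.Lib.Helper17.FreeOn.freeOnHomEquiv E U).symm y, ?_⟩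
  apply (Groth.Agent.Lib.Helper17.FreeOn.freeOnHomEquiv X U).injective
  rw [Groth.Agent.Lib.Helper17.FreeOn.freeOnHomEquiv_comp, Equiv.apply_symm_apply]
  exact hy

/-- **S9037-type statement**. -/
theorem isCompactObject_single_freeOn [HasDerivedCategory.{u} (ModSite.Mod O)]
    [HasCoproducts.{u} (DerivedCategory (ModSite.Mod O))] {U : C}
    (hqc : CohCx.IsQcObject (hSh J U)) (hwc : CohSite.IsWeaklyContractible J U) :
    CohDer.IsCompactObject
      ((DerivedCategory.singleFunctor (ModSite.Mod O) 0).obj (ModSite.freeOn O U)) := by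
  haveI : IsGrothendieckAbelian.{u} (ModSite.Mod O) :=
    Groth.Agent.S0484.result J (ModSite.ringSh O)
  haveI := projective_freeOn O hwc
  have hQ : QPreservesCofans.{u} (A := ModSite.Mod O) := qPreservesCofans
  exact isCompactObject_of_cptU (cptU_single_of_small hQ (ModSite.freeOn O U)
    (fun ι F c hc g => exists_fix_freeOn O hqc F c hc g))

end Groth.Agent.Lib.Helper2.QcSite
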